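import Groth.Agent.Lib.DerTrunc.Basic
import Mathlib.Algebra.Homology.DerivedCategory.Fractions
import Mathlib.Algebra.Homology.SingleHomology
import Mathlib.CategoryTheory.Sites.Grothendieck

/-!
Classes in `Hom(G_U[-m], K)` against sections of the cohomology objects, for a family of local
generators `G_U` of an abelian category indexed by a site.
-/

set_option autoImplicit false
set_option linter.style.haveILetI false
set_option linter.unusedSectionVars false
set_option backward.isDefEq.respectTransparency false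
set_option backward.isDefEq.respectTransparency.types false

universe w v u v' u'

open CategoryTheory CategoryTheory.Limits CategoryTheory.Pretriangulated CategoryTheory.Triangulated
open DerivedCategory.TStructure

namespace Groth.Agent.SiteRlim

variable {A : Type u} [Category.{v} A] [Abelian A] {C : Type u'} [Category.{v'} C]
  (J : GrothendieckTopology C) (G : C ⥤ A)

/-- Objects `G U` such that `Hom(G U, -)` are the sections of a separated, locally exact theory. -/
structure LocalGen : Prop where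
  sep : ∀ {U : C} {M : A} (φ : G.obj U ⟶ M) (S : Sieve U), S ∈ J U →
    (∀ {V : C} (g : V ⟶ U), S g → G.map g ≫ φ = 0) → φ = 0
  lift : ∀ {U : C} {M N : A} (π : M ⟶ N) [Epi π] (φ : G.obj U ⟶ N),
    ∃ S ∈ J U, ∀ {V : C} (g : V ⟶ U), S g → ∃ ψ : G.obj V ⟶ M, ψ ≫ π = G.map g ≫ φ
  gen : ∀ {M N : A} (f : M ⟶ N), (∀ (U : C) (φ : G.obj U ⟶ M), φ ≫ f = 0) → f = 0

variable {J G} [HasDerivedCategory.{w} A]

local notation "HH" => DerivedCategory.homologyFunctor A
local notation "SF" => DerivedCategory.singleFunctor A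

/-- The section of the cohomology object attached to a class. -/
noncomputable def θ {X : A} {m : ℤ} {K : DerivedCategory A} (f : (SF m).obj X ⟶ K) : X ⟶ (HH m).obj K :=
  (DerivedCategory.singleFunctorCompHomologyFunctorIso A m).inv.app X ≫ (HH m).map f

theorem θ_comp {X : A} {m : ℤ} {K L : DerivedCategory A} (f : (SF m).obj X ⟶ K) (g : K ⟶ L) :
    θ (f ≫ g) = θ f ≫ (HH m).map g := by
  simp [θ]

theorem θ_pre {X Y : A} {m : ℤ} {K : DerivedCategory A} (φ : Y ⟶ X) (f : (SF m).obj X ⟶ K) :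
    θ ((SF m).map φ ≫ f) = φ ≫ θ f := by
  simp only [θ, Functor.map_comp, ← Category.assoc]
  congr 1
  exact ((DerivedCategory.singleFunctorCompHomologyFunctorIso A m).inv.naturality φ).symm

theorem θ_eq_zero_iff {X : A} {m : ℤ} {K : DerivedCategory A} (f : (SF m).obj X ⟶ K) :
    θ f = 0 ↔ (HH m).map f = 0 := by
  rw [θ, ← IsIso.eq_inv_comp, comp_zero]

theorem exists_θ_eq_of_concentrated {X : A} {m : ℤ} {K : DerivedCategory A} [K.IsGE m] [K.IsLE m]
    (s : X ⟶ (HH m).obj K) : ∃ f : (SF m).obj X ⟶ K, θ f = s := by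
  obtain ⟨M, ⟨e⟩⟩ := DerivedCategory.exists_iso_singleFunctor_obj_of_isGE_of_isLE K m
  refine ⟨(SF m).map (s ≫ (HH m).map e.hom ≫
    (DerivedCategory.singleFunctorCompHomologyFunctorIso A m).hom.app M) ≫ e.inv, ?_⟩
  rw [θ_pre, θ, Category.assoc, Category.assoc]
  erw [Iso.hom_inv_id_app_assoc]
  rw [← Functor.map_comp, e.hom_inv_id, CategoryTheory.Functor.map_id]
  exact Category.comp_id _

variable (hG : LocalGen J G)
include hG

/-- A class in an object of degrees `< m` vanishes locally. -/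
theorem locally_zero_of_isLE {U : C} {m : ℤ} {P : DerivedCategory A} [P.IsLE (m - 1)]
    (f : (SF m).obj (G.obj U) ⟶ P) :
    ∃ S ∈ J U, ∀ {V : C} (g : V ⟶ U), S g → (SF m).map (G.map g) ≫ f = 0 := by
  obtain ⟨K, e, hK⟩ := (t.le_of_isLE P (m - 1))
  let σ := HomologicalComplex.single A (ComplexShape.up ℤ) m
  obtain ⟨X', s, hs, g₀, hg₀⟩ := DerivedCategory.right_fac
    (show DerivedCategory.Q.obj (σ.obj (G.obj U)) ⟶ DerivedCategory.Q.obj K from f ≫ e.hom)
  haveI : QuasiIso s := (DerivedCategory.isIso_Q_map_iff_quasiIso _ s).1 hs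
  let p : X'.cycles m ⟶ G.obj U :=
    X'.homologyπ m ≫ HomologicalComplex.homologyMap s m ≫
      (HomologicalComplex.singleObjHomologySelfIso (ComplexShape.up ℤ) m (G.obj U)).hom
  haveI : Epi p := inferInstanceAs (Epi (_ ≫ _))
  obtain ⟨S, hS, hψ⟩ := hG.lift p (𝟙 (G.obj U))
  refine ⟨S, hS, fun {V} g hg => ?_⟩
  obtain ⟨ψ, hψ'⟩ := hψ g hg
  rw [Category.comp_id] at hψ'
  let j : σ.obj (G.obj V) ⟶ X' :=
    HomologicalComplex.mkHomFromSingle (ψ ≫ X'.iCycles m) (fun k _ => by simp)
  have hj : j ≫ s = σ.map (G.map g) := by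
    refine HomologicalComplex.from_single_hom_ext ?_
    have hp : p = X'.iCycles m ≫ s.f m ≫
        (HomologicalComplex.singleObjXSelf (ComplexShape.up ℤ) m (G.obj U)).hom := by
      simp only [p]
      rw [HomologicalComplex.homologyπ_naturality_assoc,
        HomologicalComplex.homologyπ_singleObjHomologySelfIso_hom,
        HomologicalComplex.singleObjCyclesSelfIso_hom, HomologicalComplex.cyclesMap_i_assoc]
    rw [hp] at hψ'
    simp only [j, HomologicalComplex.comp_f, HomologicalComplex.mkHomFromSingle_f, σ,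
      HomologicalComplex.single_map_f_self]
    rw [← hψ']
    simp
  have hjg : j ≫ g₀ = 0 :=
    HomologicalComplex.from_single_hom_ext
      ((K.isZero_of_isStrictlyLE (m - 1) m (by lia)).eq_of_tgt _ _)
  rw [← cancel_mono e.hom, zero_comp, Category.assoc]
  change DerivedCategory.Q.map (σ.map (G.map g)) ≫
    (show DerivedCategory.Q.obj (σ.obj (G.obj U)) ⟶ DerivedCategory.Q.obj K from f ≫ e.hom) = 0
  rw [hg₀, ← hj, Functor.map_comp, Category.assoc, IsIso.hom_inv_id_assoc, ← Functor.map_comp, hjg,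
    Functor.map_zero]

/-- A class whose section vanishes is locally zero. -/
theorem locally_zero_of_θ {U : C} {m : ℤ} {K : DerivedCategory A} (f : (SF m).obj (G.obj U) ⟶ K)
    (hf : θ f = 0) : ∃ S ∈ J U, ∀ {V : C} (g : V ⟶ U), S g → (SF m).map (G.map g) ≫ f = 0 := by
  haveI : DerivedCategory.IsLE ((SF m).obj (G.obj U)) m := inferInstance
  haveI hP : DerivedCategory.IsLE ((t.truncLT (m + 1)).obj K) m :=
    t.isLE_truncLT_obj K (m + 1) m (by lia)
  obtain ⟨f', rfl⟩ : ∃ f', f' ≫ (t.truncLTι (m + 1)).app K = f :=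
    ⟨t.liftTruncLT f m (m + 1) rfl, t.liftTruncLT_ι f m (m + 1) rfl⟩
  have := DerTrunc.isIso_homology_truncLTι K (m + 1) m (by lia)
  rw [θ_comp] at hf
  have hf' : θ f' = 0 := (cancel_mono ((HH m).map ((t.truncLTι (m + 1)).app K))).1 (by rw [hf, zero_comp])
  let P := (t.truncLT (m + 1)).obj K
  haveI : DerivedCategory.IsGE ((t.truncGE m).obj P) m := (inferInstance : t.IsGE ((t.truncGE m).obj P) m)
  haveI : DerivedCategory.IsLE ((t.truncLT m).obj P) (m - 1) :=
    (inferInstance : t.IsLE ((t.truncLT m).obj P) (m - 1))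
  have h0 : f' ≫ (t.truncGEπ m).app P = 0 := DerTrunc.hom_eq_zero_of_isLE_of_isGE m _ (by
    rw [Functor.map_comp, (θ_eq_zero_iff f').1 hf', zero_comp])
  obtain ⟨f'', hf''⟩ := Triangle.coyoneda_exact₂ _ (t.triangleLTGE_distinguished m P) f' h0
  obtain ⟨S, hS, h⟩ := locally_zero_of_isLE hG (P := (t.truncLT m).obj P) f''
  refine ⟨S, hS, fun {V} g hg => ?_⟩
  have h1 : (SF m).map (G.map g) ≫ f' = 0 := by
    rw [hf'']
    exact ((Category.assoc _ _ _).symm.trans (congrArg (· ≫ _) (h g hg))).trans zero_comp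
  rw [← Category.assoc, h1, zero_comp]

/-- Sections of the cohomology object come locally from classes. -/
theorem locally_exists_θ {U : C} {m : ℤ} {K : DerivedCategory A} (s : G.obj U ⟶ (HH m).obj K) :
    ∃ S ∈ J U, ∀ {V : C} (g : V ⟶ U), S g →
      ∃ f : (SF m).obj (G.obj V) ⟶ K, θ f = G.map g ≫ s := by
  haveI hPle : DerivedCategory.IsLE ((t.truncLT (m + 1)).obj K) m :=
    t.isLE_truncLT_obj K (m + 1) m (by lia)
  let P := (t.truncLT (m + 1)).obj K
  haveI : DerivedCategory.IsGE ((t.truncGE m).obj P) m := (inferInstance : t.IsGE ((t.truncGE m).obj P) m)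
  haveI : DerivedCategory.IsLE ((t.truncGE m).obj P) m := (inferInstance : t.IsLE ((t.truncGE m).obj P) m)
  have hi := DerTrunc.isIso_homology_truncLTι K (m + 1) m (by lia)
  have hq := DerTrunc.isIso_homology_truncGEπ P m m le_rfl
  obtain ⟨u, hu⟩ := exists_θ_eq_of_concentrated (K := (t.truncGE m).obj P)
    (s ≫ inv ((HH m).map ((t.truncLTι (m + 1)).app K)) ≫ (HH m).map ((t.truncGEπ m).app P))
  haveI : DerivedCategory.IsLE (((t.truncLT m).obj P)⟦(1 : ℤ)⟧) (m - 1) := by
    have : t.IsLE ((t.truncLT m).obj P) (m - 1) := inferInstance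
    have := t.isLE_shift ((t.truncLT m).obj P) (m - 1) 1 (m - 2) (by lia)
    exact t.isLE_of_le _ (m - 2) (m - 1) (by lia)
  obtain ⟨S, hS, h⟩ := locally_zero_of_isLE hG (P := ((t.truncLT m).obj P)⟦(1 : ℤ)⟧)
    (u ≫ ((t.triangleLTGE m).obj P).mor₃)
  refine ⟨S, hS, fun {V} g hg => ?_⟩
  obtain ⟨v, hv⟩ := Triangle.coyoneda_exact₃ _ (t.triangleLTGE_distinguished m P)
    ((SF m).map (G.map g) ≫ u) ((Category.assoc _ _ _).trans (h g hg))
  refine ⟨v ≫ (t.truncLTι (m + 1)).app K, ?_⟩
  have h2 : θ v ≫ (HH m).map ((t.truncGEπ m).app P) = G.map g ≫ θ u := by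
    rw [← θ_comp, ← θ_pre]
    exact congrArg θ hv.symm
  rw [hu, ← Category.assoc, ← Category.assoc, cancel_mono] at h2
  rw [θ_comp, h2]
  simp

end Groth.Agent.SiteRlim
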