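import Groth.Agent.Lib.KInj.RightDerived
import Groth.Agent.Lib.KInj.DerivedAdj
import Mathlib.CategoryTheory.Triangulated.Adjunction
import Mathlib.CategoryTheory.Triangulated.Orthogonal

/-! Unbounded right derived functors computed by K-injective complexes are triangulated. -/

set_option autoImplicit false
set_option linter.style.haveILetI false
set_option backward.isDefEq.respectTransparency false
set_option backward.isDefEq.respectTransparency.types false

universe w v u v' u'

open CategoryTheory CategoryTheory.Limits CategoryTheory.Pretriangulated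

namespace Groth.Agent.SiteRlim

open KInjLib

variable {A : Type u} [Category.{v} A] [Abelian A] [HasDerivedCategory.{w} A]

variable (A) in
/-- Complexes of the K-injective subcategory in the derived category. -/
noncomputable abbrev kInjToD : (kInjObj A).FullSubcategory ⥤ DerivedCategory A :=
  (kInjObj A).ι ⋙ DerivedCategory.Qh

theorem isEquivalence_kInjToD (h : EnoughKInj A) : (kInjToD A).IsEquivalence := by
  have : (kInjToD A).Faithful :=
    ⟨fun {X Y} f g e => (kInjObj A).ι.map_injective ((bijective_Qh_map _ Y).1 e)⟩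
  have : (kInjToD A).Full := ⟨fun {X Y} g => by
    obtain ⟨f, hf⟩ := (bijective_Qh_map _ Y).2 g
    exact ⟨ObjectProperty.homMk f, hf⟩⟩
  have : (kInjToD A).EssSurj := ⟨fun Y => by
    obtain ⟨I, w, hw⟩ := exists_rightResolution h (DerivedCategory.Qh.objPreimage Y)
    have := Localization.inverts DerivedCategory.Qh _ w hw
    exact ⟨I, ⟨(asIso (DerivedCategory.Qh.map w)).symm ≪≫ DerivedCategory.Qh.objObjPreimageIso Y⟩⟩⟩
  exact { }

variable {T : Type u'} [Category.{v'} T] [Preadditive T] [HasZeroObject T] [HasShift T ℤ]
  [∀ n : ℤ, (shiftFunctor T n).Additive] [Pretriangulated T]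
  {F : HomotopyCategory A (ComplexShape.up ℤ) ⥤ T} [F.CommShift ℤ] [F.IsTriangulated]
  {RF : DerivedCategory A ⥤ T} (α : F ⟶ DerivedCategory.Qh ⋙ RF)
  [RF.IsRightDerivedFunctor α (HomotopyCategory.quasiIso A (ComplexShape.up ℤ))]

include α in
/-- `RF` is a composite of triangulated functors, hence carries such a structure. -/
theorem exists_commShift_isTriangulated (h : EnoughKInj A) :
    ∃ _ : RF.CommShift ℤ, RF.IsTriangulated := by
  haveI := isEquivalence_kInjToD h
  let e := (kInjToD A).asEquivalence
  letI : e.functor.CommShift ℤ := (inferInstance : (kInjToD A).CommShift ℤ)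
  haveI : e.functor.IsTriangulated := (inferInstance : (kInjToD A).IsTriangulated)
  letI : e.inverse.CommShift ℤ := e.commShiftInverse ℤ
  haveI : e.CommShift ℤ := e.commShift_of_functor ℤ
  haveI : e.IsTriangulated := Equivalence.IsTriangulated.mk' _ inferInstance
  haveI : IsIso (Functor.whiskerLeft (kInjObj A).ι α) := by
    rw [NatTrans.isIso_iff_isIso_app]
    exact fun X => isIso_unit_of_kInjObj h α X.obj X.property
  let i : e.functor ⋙ RF ≅ (kInjObj A).ι ⋙ F :=
    Functor.associator _ _ _ ≪≫ (asIso (Functor.whiskerLeft (kInjObj A).ι α)).symm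
  let j : e.inverse ⋙ (kInjObj A).ι ⋙ F ≅ RF :=
    Functor.isoWhiskerLeft _ i.symm ≪≫ (Functor.associator _ _ _).symm ≪≫
      Functor.isoWhiskerRight e.counitIso _ ≪≫ Functor.leftUnitor _
  letI : RF.CommShift ℤ := Functor.CommShift.ofIso j ℤ
  haveI : NatTrans.CommShift j.hom ℤ := Functor.CommShift.ofIso_compatibility j ℤ
  exact ⟨inferInstance, Functor.isTriangulated_of_iso j⟩

/-- The case of a functor induced by an additive functor. -/
theorem exists_commShift_isTriangulated_map {B : Type*} [Category* B] [Abelian B] [HasDerivedCategory B]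
    {G : A ⥤ B} [G.Additive] {RG : DerivedCategory A ⥤ DerivedCategory B}
    (β : G.mapHomotopyCategory (ComplexShape.up ℤ) ⋙ DerivedCategory.Qh ⟶ DerivedCategory.Qh ⋙ RG)
    [RG.IsRightDerivedFunctor β (HomotopyCategory.quasiIso A (ComplexShape.up ℤ))] (h : EnoughKInj A) :
    ∃ _ : RG.CommShift ℤ, RG.IsTriangulated :=
  exists_commShift_isTriangulated β h

end Groth.Agent.SiteRlim
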