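import Groth.Agent.Lib.SiteRlim16.Local
import Groth.Prelude.Def_CohCx

/-! Cohomology objects of a derived limit, computed locally. -/

set_option autoImplicit false
set_option linter.style.haveILetI false
set_option linter.unusedSectionVars false
set_option backward.isDefEq.respectTransparency false
set_option backward.isDefEq.respectTransparency.types false

universe w v u v' u' w₁ w₂

open CategoryTheory CategoryTheory.Limits CategoryTheory.Pretriangulated

namespace Groth.Agent.SiteRlim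

section Triangle

variable {T : Type w₁} [Category.{w₂} T] [Preadditive T] [HasZeroObject T] [HasShift T ℤ]
  [∀ n : ℤ, (shiftFunctor T n).Additive] [Pretriangulated T]
  {K : ℕ → T} {t : ∀ n, K (n + 1) ⟶ K n} [HasProduct K] {L : T} {a : ∀ n, L ⟶ K n}
  (hL : CohCx.IsRlimVia K t L a)
include hL

theorem comp_transition (n : ℕ) : a (n + 1) ≫ t n = a n := by
  obtain ⟨c, hc⟩ := hL
  have h := congrArg (· ≫ Pi.π K n) (comp_distTriang_mor_zero₁₂ _ hc)
  simp only [Triangle.mk_mor₁, Triangle.mk_mor₂, Category.assoc, limit.lift_π, Fan.mk_pt, Fan.mk_π_app,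
    Preadditive.comp_sub, limit.lift_π_assoc, zero_comp, Discrete.functor_obj_eq_as] at h
  exact (sub_eq_zero.1 h).symm

/-- Compatible families lift. -/
theorem exists_lift {X : T} (x : ∀ n, X ⟶ K n) (hx : ∀ n, x (n + 1) ≫ t n = x n) :
    ∃ y : X ⟶ L, ∀ n, y ≫ a n = x n := by
  obtain ⟨c, hc⟩ := hL
  obtain ⟨y, hy⟩ := Triangle.coyoneda_exact₂ _ hc (Pi.lift x) (by
    refine Pi.hom_ext _ _ fun n => ?_
    simp [hx n])
  refine ⟨y, fun n => ?_⟩
  have := congrArg (· ≫ Pi.π K n) hy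
  simpa using this.symm

/-- A map killed by all projections is zero when `R¹lim` vanishes one degree lower. -/
theorem eq_zero_of_comp {X : T} (y : X ⟶ L) (hy : ∀ n, y ≫ a n = 0)
    (h : ∀ w : ∀ n, X⟦(1 : ℤ)⟧ ⟶ K n, ∃ x : ∀ n, X⟦(1 : ℤ)⟧ ⟶ K n, ∀ n, x n - x (n + 1) ≫ t n = w n) :
    y = 0 := by
  obtain ⟨c, hc⟩ := hL
  obtain ⟨z, hz⟩ := Triangle.coyoneda_exact₁ _ hc (y⟦(1 : ℤ)⟧') (by
    have h0 : y ≫ Pi.lift a = 0 := Pi.hom_ext _ _ fun n => by simp [hy n]
    simp only [Triangle.mk_mor₁]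
    rw [← Functor.map_comp, h0, Functor.map_zero])
  obtain ⟨x, hx⟩ := h fun n => z ≫ Pi.π K n
  have hzx : z = Pi.lift x ≫ (Triangle.mk (Pi.lift a) (Pi.lift fun n => Pi.π K n - Pi.π K (n + 1) ≫ t n) c).mor₂ :=
    Pi.hom_ext _ _ fun n => by simp [← hx n]
  apply (shiftFunctor T (1 : ℤ)).map_injective
  rw [Functor.map_zero, hz, hzx, Category.assoc, comp_distTriang_mor_zero₂₃ _ hc, comp_zero]

omit hL [HasProduct K] in
/-- Eventual surjectivity gives vanishing of `R¹lim`. -/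
theorem exists_sub_of_surjective {X : T} (n₀ : ℕ)
    (h : ∀ n, n₀ ≤ n → Function.Surjective (fun f : X ⟶ K (n + 1) => f ≫ t n))
    (w : ∀ n, X ⟶ K n) : ∃ x : ∀ n, X ⟶ K n, ∀ n, x n - x (n + 1) ≫ t n = w n := by
  -- upwards from `n₀`
  choose g hg using h
  let up : ∀ k : ℕ, X ⟶ K (n₀ + k) := fun k => Nat.rec (motive := fun k => X ⟶ K (n₀ + k)) 0
    (fun k prev => g (n₀ + k) (Nat.le_add_right _ _) (prev - w (n₀ + k))) k
  have hup : ∀ k, up k - up (k + 1) ≫ t (n₀ + k) = w (n₀ + k) := fun k => by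
    rw [show up (k + 1) ≫ t (n₀ + k) = up k - w (n₀ + k) from hg (n₀ + k) (Nat.le_add_right _ _) _]
    abel
  -- downwards below `n₀`
  have hdown : ∀ j : ℕ, j ≤ n₀ → ∃ x : ∀ n, X ⟶ K n, ∀ n, n₀ - j ≤ n → x n - x (n + 1) ≫ t n = w n := by
    intro j
    induction j with
    | zero =>
      intro _
      classical
      refine ⟨fun n => if hn : n₀ ≤ n then up (n - n₀) ≫ eqToHom (by rw [Nat.add_sub_cancel' hn]) else 0,
        fun n hn => ?_⟩
      obtain ⟨k, rfl⟩ : ∃ k, n = n₀ + k := ⟨n - n₀, by omega⟩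
      simp only [Nat.le_add_right, dite_true, show n₀ ≤ n₀ + k + 1 by omega]
      have e1 : ∀ (i i' : ℕ) (h : i = i') (p : K (n₀ + i) = K (n₀ + i')),
          up i ≫ eqToHom p = up i' := by rintro i _ rfl p; simp
      rw [e1 (n₀ + k - n₀) k (by omega)]
      have e2 : ∀ (i i' : ℕ) (h : i = i') (m : ℕ) (p : K (n₀ + i) = K m) (q : K (n₀ + i') = K m),
          up i ≫ eqToHom p = up i' ≫ eqToHom q := by rintro i _ rfl m p q; rfl
      rw [e2 (n₀ + k + 1 - n₀) (k + 1) (by omega) (n₀ + k + 1) _ rfl, eqToHom_refl, Category.comp_id]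
      exact hup k
    | succ j ih =>
      intro hj
      obtain ⟨x, hx⟩ := ih (by omega)
      classical
      refine ⟨Function.update x (n₀ - (j + 1)) (w (n₀ - (j + 1)) + x (n₀ - (j + 1) + 1) ≫ t _), fun n hn => ?_⟩
      rcases eq_or_lt_of_le hn with rfl | hlt
      · rw [Function.update_self, Function.update_of_ne (by omega)]
        abel
      · rw [Function.update_of_ne (by omega), Function.update_of_ne (by omega)]
        exact hx n (by omega)
  obtain ⟨x, hx⟩ := hdown n₀ le_rfl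
  exact ⟨x, fun n => hx n (by omega)⟩

omit hL [HasProduct K] in
/-- A map out of an object with eventually bijective transitions extends to a compatible family. -/
theorem exists_family_of_bijective {X : T} (n₀ : ℕ)
    (h : ∀ n, n₀ ≤ n → Function.Surjective (fun f : X ⟶ K (n + 1) => f ≫ t n))
    (f : X ⟶ K n₀) : ∃ x : ∀ n, X ⟶ K n, (∀ n, x (n + 1) ≫ t n = x n) ∧ x n₀ = f := by
  classical
  -- start from `f` upwards
  choose g hg using h
  let up : ∀ k : ℕ, X ⟶ K (n₀ + k) := fun k => Nat.rec (motive := fun k => X ⟶ K (n₀ + k)) f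
    (fun k prev => g (n₀ + k) (Nat.le_add_right _ _) prev) k
  have hup : ∀ k, up (k + 1) ≫ t (n₀ + k) = up k := fun k => hg (n₀ + k) (Nat.le_add_right _ _) _
  have hdown : ∀ j : ℕ, j ≤ n₀ →
      ∃ x : ∀ n, X ⟶ K n, (∀ n, n₀ - j ≤ n → x (n + 1) ≫ t n = x n) ∧ x n₀ = f := by
    intro j
    induction j with
    | zero =>
      intro _
      refine ⟨fun n => if hn : n₀ ≤ n then up (n - n₀) ≫ eqToHom (by rw [Nat.add_sub_cancel' hn]) else 0,
        fun n hn => ?_, ?_⟩
      · obtain ⟨k, rfl⟩ : ∃ k, n = n₀ + k := ⟨n - n₀, by omega⟩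
        simp only [Nat.le_add_right, dite_true, show n₀ ≤ n₀ + k + 1 by omega]
        have e2 : ∀ (i i' : ℕ) (h : i = i') (m : ℕ) (p : K (n₀ + i) = K m) (q : K (n₀ + i') = K m),
            up i ≫ eqToHom p = up i' ≫ eqToHom q := by rintro i _ rfl m p q; rfl
        rw [e2 (n₀ + k + 1 - n₀) (k + 1) (by omega) (n₀ + k + 1) _ rfl,
          e2 (n₀ + k - n₀) k (by omega) (n₀ + k) _ rfl, eqToHom_refl, Category.comp_id, eqToHom_refl,
          Category.comp_id]
        exact hup k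
      · simp only [le_refl, dite_true]
        have e2 : ∀ (i i' : ℕ) (h : i = i') (m : ℕ) (p : K (n₀ + i) = K m) (q : K (n₀ + i') = K m),
            up i ≫ eqToHom p = up i' ≫ eqToHom q := by rintro i _ rfl m p q; rfl
        rw [e2 (n₀ - n₀) 0 (by omega) n₀ _ rfl, eqToHom_refl, Category.comp_id]
        rfl
    | succ j ih =>
      intro hj
      obtain ⟨x, hx, hx₀⟩ := ih (by omega)
      refine ⟨Function.update x (n₀ - (j + 1)) (x (n₀ - (j + 1) + 1) ≫ t _), fun n hn => ?_, ?_⟩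
      · rcases eq_or_lt_of_le hn with rfl | hlt
        · rw [Function.update_self, Function.update_of_ne (by omega)]
        · rw [Function.update_of_ne (by omega), Function.update_of_ne (by omega)]
          exact hx n (by omega)
      · rw [Function.update_of_ne (by omega), hx₀]
  obtain ⟨x, hx, hx₀⟩ := hdown n₀ le_rfl
  exact ⟨x, fun n => hx n (by omega), hx₀⟩

omit hL [HasProduct K] in
/-- With eventually injective transitions a compatible family is determined by one member. -/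
theorem eq_zero_of_injective {X : T} (n₀ : ℕ)
    (h : ∀ n, n₀ ≤ n → Function.Injective (fun f : X ⟶ K (n + 1) => f ≫ t n))
    (x : ∀ n, X ⟶ K n) (hx : ∀ n, x (n + 1) ≫ t n = x n) (h0 : x n₀ = 0) (n : ℕ) : x n = 0 := by
  rcases le_total n₀ n with hn | hn
  · induction hn with
    | refl => exact h0
    | step hk ih => exact h _ hk (by simp only [hx, ih, zero_comp])
  · have : ∀ j, ∀ n, n + j = n₀ → x n = 0 := by
      intro j
      induction j with
      | zero => rintro n rfl; exact h0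
      | succ j ih => intro n hn; rw [← hx n, ih (n + 1) (by omega), zero_comp]
    exact this (n₀ - n) n (by omega)

end Triangle

variable {A : Type u} [Category.{v} A] [Abelian A] {C : Type u'} [Category.{v'} C]
  {J : GrothendieckTopology C} {G : C ⥤ A} [HasDerivedCategory.{w} A]

local notation "HH" => DerivedCategory.homologyFunctor A
local notation "SF" => DerivedCategory.singleFunctor A

/-- The classes over `Y` are constant from `n₀` on, and surjective one degree lower. -/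
def Stable (K : ℕ → DerivedCategory A) (t : ∀ n, K (n + 1) ⟶ K n) (m : ℤ) (n₀ : ℕ) (X : A) : Prop :=
  ∀ n, n₀ ≤ n → Function.Bijective (fun f : (SF m).obj X ⟶ K (n + 1) => f ≫ t n) ∧
    Function.Surjective (fun f : (SF (m - 1)).obj X ⟶ K (n + 1) => f ≫ t n)

theorem Stable.mono {K : ℕ → DerivedCategory A} {t : ∀ n, K (n + 1) ⟶ K n} {m : ℤ} {n₀ n₁ : ℕ} {X : A}
    (h : Stable K t m n₀ X) (hn : n₀ ≤ n₁) : Stable K t m n₁ X := fun n hn' => h n (hn.trans hn')

variable {K : ℕ → DerivedCategory A} {t : ∀ n, K (n + 1) ⟶ K n} [HasProduct K]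
  {L : DerivedCategory A} {a : ∀ n, L ⟶ K n} (hL : CohCx.IsRlimVia K t L a)
include hL

theorem Stable.bijective {m : ℤ} {n₀ : ℕ} {X : A} (h : Stable K t m n₀ X) :
    Function.Bijective (fun f : (SF m).obj X ⟶ L => f ≫ a n₀) := by
  refine ⟨(injective_iff_map_eq_zero (AddMonoidHom.mk' (fun f : (SF m).obj X ⟶ L => f ≫ a n₀)
    fun _ _ => Preadditive.add_comp _ _ _ _ _ _)).2 fun y hy => ?_, fun f => ?_⟩
  · refine eq_zero_of_comp hL y (eq_zero_of_injective n₀ (fun n hn => (h n hn).1.1) (fun n => y ≫ a n)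
      (fun n => by rw [Category.assoc, comp_transition hL]) hy) fun w => ?_
    let e := ((DerivedCategory.singleFunctors A).shiftIso (1 : ℤ) (m - 1) m (by lia)).app X
    obtain ⟨x, hx⟩ := exists_sub_of_surjective (t := t) n₀ (fun n hn => (h n hn).2) fun n => e.inv ≫ w n
    exact ⟨fun n => e.hom ≫ x n, fun n => by
      rw [Category.assoc, ← Preadditive.comp_sub, hx, Iso.hom_inv_id_assoc]⟩
  · obtain ⟨x, hx, hx₀⟩ := exists_family_of_bijective (t := t) n₀ (fun n hn => (h n hn).1.2) f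
    obtain ⟨y, hy⟩ := exists_lift hL x hx
    exact ⟨y, (hy n₀).trans hx₀⟩

/-- A derived limit of a locally eventually constant system has the expected cohomology. -/
theorem isIso_homology_of_stable (hG : LocalGen J G) (B : Set C)
    (hB : ∀ U : C, ∃ S ∈ J U, ∀ ⦃V : C⦄ (g : V ⟶ U), S g →
      ∃ (W : C) (p : V ⟶ W) (q : W ⟶ U), W ∈ B ∧ p ≫ q = g)
    (m : ℤ) (n₁ : ℕ) (hconst : ∀ n, n₁ ≤ n → IsIso ((HH m).map (t n)))
    (hst : ∀ V ∈ B, ∃ n₀ : ℕ, ∀ T ∈ J V, ∃ S ∈ J V, ∀ ⦃W : C⦄ (g : W ⟶ V), S g →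
      ∃ (Y : C) (p : W ⟶ Y) (q : Y ⟶ V), T q ∧ p ≫ q = g ∧ Stable K t m n₀ (G.obj Y))
    (n : ℕ) (hn : n₁ ≤ n) : IsIso ((HH m).map (a n)) := by
  -- all projections from a common stage agree
  have htr : ∀ n', n₁ ≤ n' → ∃ τ : (HH m).obj (K n') ⟶ (HH m).obj (K n₁),
      IsIso τ ∧ (HH m).map (a n') ≫ τ = (HH m).map (a n₁) := by
    intro n' hn'
    induction hn' with
    | refl => exact ⟨𝟙 _, inferInstance, Category.comp_id _⟩
    | step hk ih =>
      obtain ⟨τ, hτ, h⟩ := ih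
      haveI := hconst _ hk
      exact ⟨(HH m).map (t _) ≫ τ, inferInstance, by
        rw [← Category.assoc, ← Functor.map_comp, comp_transition hL, h]⟩
  suffices h : IsIso ((HH m).map (a n₁)) by
    obtain ⟨τ, hτ, h'⟩ := htr n hn
    haveI : IsIso ((HH m).map (a n) ≫ τ) := h' ▸ h
    exact IsIso.of_isIso_comp_right _ τ
  haveI : Mono ((HH m).map (a n₁)) := by
    refine Preadditive.mono_of_cancel_zero _ fun {Z} z hz => hG.gen z fun U φ => ?_
    obtain ⟨S, hS, hSB⟩ := hB U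
    refine hG.sep _ S hS fun {V₀} g₀ hg₀ => ?_
    obtain ⟨V, p₀, q₀, hV, rfl⟩ := hSB g₀ hg₀
    have hs : (G.map q₀ ≫ φ ≫ z) ≫ (HH m).map (a n₁) = 0 := by simp [hz]
    suffices G.map q₀ ≫ φ ≫ z = 0 by rw [Functor.map_comp, Category.assoc, this, comp_zero]
    obtain ⟨n₀, hV'⟩ := hst V hV
    let N := max n₀ n₁
    have hsN : (G.map q₀ ≫ φ ≫ z) ≫ (HH m).map (a N) = 0 := by
      obtain ⟨τ, hτ, h'⟩ := htr N (le_max_right _ _)
      rw [← cancel_mono τ, Category.assoc, h', hs, zero_comp]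
    obtain ⟨T₁, hT₁, hT₁'⟩ := locally_exists_θ hG (G.map q₀ ≫ φ ≫ z)
    -- refine until the images of the classes vanish
    have hT : ∃ T ∈ J V, ∀ ⦃W : C⦄ (g : W ⟶ V), T g → ∃ f : (SF m).obj (G.obj W) ⟶ L,
        θ f = G.map g ≫ G.map q₀ ≫ φ ≫ z ∧ f ≫ a N = 0 := by
      choose f hf using fun (W : C) (g : W ⟶ V) (hg : T₁ g) => hT₁' g hg
      choose R hR hR' using fun (W : C) (g : W ⟶ V) (hg : T₁ g) => locally_zero_of_θ hG (f W g hg ≫ a N) (by
        rw [θ_comp, hf, Category.assoc, hsN, comp_zero])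
      refine ⟨Sieve.bind T₁.arrows fun W g hg => R W g hg, J.bind_covering hT₁ fun W g hg => hR W g hg, ?_⟩
      rintro W g ⟨W', r, g', hg', hr, rfl⟩
      refine ⟨(SF m).map (G.map r) ≫ f W' g' hg', ?_, ?_⟩
      · rw [θ_pre, hf, Functor.map_comp, Category.assoc]
      · rw [Category.assoc]
        exact hR' W' g' hg' r hr
    obtain ⟨T, hTm, hT'⟩ := hT
    obtain ⟨S', hS', hS''⟩ := hV' T hTm
    refine hG.sep _ S' hS' fun {W} g hg => ?_
    obtain ⟨Y, p, q, hq, rfl, hst'⟩ := hS'' g hg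
    obtain ⟨f, hf, hfa⟩ := hT' q hq
    have : f = 0 := ((hst'.mono (le_max_left _ _)).bijective hL).1 (hfa.trans zero_comp.symm)
    rw [Functor.map_comp, Category.assoc, ← hf, this, θ, Functor.map_zero, comp_zero, comp_zero]
  haveI : Epi ((HH m).map (a n₁)) := by
    refine Preadditive.epi_of_cancel_zero _ fun {Z} z hz => hG.gen z fun U φ => ?_
    obtain ⟨S, hS, hSB⟩ := hB U
    refine hG.sep _ S hS fun {V₀} g₀ hg₀ => ?_
    obtain ⟨V, p₀, q₀, hV, rfl⟩ := hSB g₀ hg₀
    suffices G.map q₀ ≫ φ ≫ z = 0 by rw [Functor.map_comp, Category.assoc, this, comp_zero]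
    obtain ⟨n₀, hV'⟩ := hst V hV
    let N := max n₀ n₁
    obtain ⟨τ, hτ, h'⟩ := htr N (le_max_right _ _)
    obtain ⟨T, hTm, hT⟩ := locally_exists_θ hG (G.map q₀ ≫ φ ≫ inv τ)
    obtain ⟨S', hS', hS''⟩ := hV' T hTm
    refine hG.sep _ S' hS' fun {W} g hg => ?_
    obtain ⟨Y, p, q, hq, rfl, hst'⟩ := hS'' g hg
    obtain ⟨f, hf⟩ := hT q hq
    obtain ⟨y, hy⟩ := ((hst'.mono (le_max_left _ _)).bijective hL).2 f
    have h1 : G.map q ≫ G.map q₀ ≫ φ = θ y ≫ (HH m).map (a n₁) := by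
      rw [← h', ← Category.assoc (θ y), ← θ_comp, show y ≫ a N = f from hy, hf]
      simp
    rw [Functor.map_comp, Category.assoc]
    refine (congrArg (G.map p ≫ ·) ?_).trans comp_zero
    rw [show G.map q ≫ G.map q₀ ≫ φ ≫ z = (G.map q ≫ G.map q₀ ≫ φ) ≫ z by simp, h1, Category.assoc, hz,
      comp_zero]
  exact isIso_of_mono_of_epi _

end Groth.Agent.SiteRlim
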