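import Groth.Agent.Lib.SiteRlim16.Vanish
import Groth.Prelude.Def_CohCx

/-! The tower of truncations of an object of a derived category as an inverse system. -/

set_option autoImplicit false
set_option linter.style.haveILetI false
set_option linter.unusedSectionVars false
set_option backward.isDefEq.respectTransparency false
set_option backward.isDefEq.respectTransparency.types false

universe w w' u v' u'

open CategoryTheory CategoryTheory.Limits CategoryTheory.Pretriangulated CategoryTheory.Triangulated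
open DerivedCategory.TStructure DerivedCategory.HomologySequence

namespace Groth.Agent.SiteRlim

variable {A : Type (u + 1)} [Category.{u} A] [Abelian A] [HasDerivedCategory.{w} A]

local notation "HH" => DerivedCategory.homologyFunctor A
local notation "SF" => DerivedCategory.singleFunctor A

theorem toTruncTower_comp (E : DerivedCategory A) (n : ℕ) :
    CohCx.toTruncTower E (n + 1) ≫ CohCx.truncTowerMap E n = CohCx.toTruncTower E n :=
  t.π_natTransTruncGEOfLE_app _ _ _ _

theorem isIso_homology_toTruncTower (E : DerivedCategory A) (n : ℕ) (q : ℤ) (h : -(n : ℤ) ≤ q) :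
    IsIso ((HH q).map (CohCx.toTruncTower E n)) :=
  DerTrunc.isIso_homology_truncGEπ E _ q h

theorem isZero_homology_truncTower (E : DerivedCategory A) (n : ℕ) (q : ℤ) (h : q < -(n : ℤ)) :
    IsZero ((HH q).obj (CohCx.truncTower E n)) := by
  haveI : DerivedCategory.IsGE (CohCx.truncTower E n) (-(n : ℤ)) :=
    (inferInstance : t.IsGE ((t.truncGE (-(n : ℤ))).obj E) _)
  exact DerivedCategory.isZero_of_isGE _ (-(n : ℤ)) q h

theorem isIso_homology_truncTowerMap (E : DerivedCategory A) (n : ℕ) (q : ℤ) (h : -(n : ℤ) ≤ q) :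
    IsIso ((HH q).map (CohCx.truncTowerMap E n)) := by
  haveI := isIso_homology_toTruncTower E (n + 1) q (by omega)
  haveI := isIso_homology_toTruncTower E n q h
  haveI : IsIso ((HH q).map (CohCx.toTruncTower E (n + 1)) ≫ (HH q).map (CohCx.truncTowerMap E n)) := by
    rw [← Functor.map_comp, toTruncTower_comp]
    infer_instance
  exact IsIso.of_isIso_comp_left ((HH q).map (CohCx.toTruncTower E (n + 1))) _

section Cone

variable (E : DerivedCategory A) (n : ℕ) {Z : DerivedCategory A} {β : CohCx.truncTower E n ⟶ Z}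
  {γ : Z ⟶ (CohCx.truncTower E (n + 1))⟦(1 : ℤ)⟧}
  (hT : Triangle.mk (CohCx.truncTowerMap E n) β γ ∈ distTriang _)
include hT

theorem isZero_homology_cone (q : ℤ) (hq : q ≠ -(n : ℤ) - 2) : IsZero ((HH q).obj Z) := by
  have h1 : Epi ((HH q).map (CohCx.truncTowerMap E n)) := by
    by_cases h : -(n : ℤ) ≤ q
    · haveI := isIso_homology_truncTowerMap E n q h; infer_instance
    · exact ⟨fun _ _ _ => (isZero_homology_truncTower E n q (by omega)).eq_of_src _ _⟩
  have h2 : Mono ((HH (q + 1)).map (CohCx.truncTowerMap E n)) := by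
    by_cases h : -(n : ℤ) ≤ q + 1
    · haveI := isIso_homology_truncTowerMap E n (q + 1) h; infer_instance
    · exact ⟨fun _ _ _ => (isZero_homology_truncTower E (n + 1) (q + 1) (by omega)).eq_of_tgt _ _⟩
  exact (exact₃ _ hT q (q + 1) (by lia)).isZero_of_both_zeros
    ((epi_homologyMap_mor₁_iff _ hT q).1 h1) ((mono_homologyMap_mor₁_iff _ hT q (q + 1) (by lia)).1 h2)

theorem nonempty_homology_cone_iso :
    Nonempty ((HH (-(n : ℤ) - 2)).obj Z ≅ (HH (-(n : ℤ) - 1)).obj E) := by
  let T := Triangle.mk (CohCx.truncTowerMap E n) β γ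
  have e : -(n : ℤ) - 2 + 1 = -(n : ℤ) - 1 := by omega
  have hz := isZero_homology_truncTower E n (-(n : ℤ) - 2) (by omega)
  have hz' := isZero_homology_truncTower E n (-(n : ℤ) - 1) (by omega)
  haveI : Mono (δ T (-(n : ℤ) - 2) (-(n : ℤ) - 1) e) :=
    (exact₃ T hT _ _).mono_g (hz.eq_of_src _ _)
  haveI : Epi (δ T (-(n : ℤ) - 2) (-(n : ℤ) - 1) e) :=
    (exact₁ T hT _ _).epi_f (hz'.eq_of_tgt _ _)
  haveI := isIso_of_mono_of_epi (δ T (-(n : ℤ) - 2) (-(n : ℤ) - 1) e)
  haveI := isIso_homology_toTruncTower E (n + 1) (-(n : ℤ) - 1) (by omega)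
  exact ⟨asIso (δ T (-(n : ℤ) - 2) (-(n : ℤ) - 1) e) ≪≫
    (asIso ((HH (-(n : ℤ) - 1)).map (CohCx.toTruncTower E (n + 1)))).symm⟩

end Cone

/-- The truncation tower is stable where the cohomology objects are acyclic. -/
theorem stable_truncTower [HasExt.{w'} A] (E : DerivedCategory A) {X : A} (m : ℤ) (n₀ : ℕ)
    (h : ∀ n, n₀ ≤ n → ∀ k : ℕ, m - 1 ≤ (k : ℤ) - n - 2 → (k : ℤ) - n - 2 ≤ m →
      Subsingleton (Abelian.Ext.{w'} X ((HH (-(n : ℤ) - 1)).obj E) k)) :
    Stable (CohCx.truncTower E) (CohCx.truncTowerMap E) m n₀ X := by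
  refine stable_of_cones fun n hn Z β γ hT j hj₁ hj₂ => ?_
  refine subsingleton_hom_of_homology j Z (-(n : ℤ) - 2) ?_ fun q hq => ?_
  · rw [DerivedCategory.isGE_iff]
    exact fun i hi => isZero_homology_cone E n hT i (by omega)
  · by_cases hq' : q = -(n : ℤ) - 2
    · subst hq'
      obtain ⟨e⟩ := nonempty_homology_cone_iso E n hT
      refine ((SF _).mapIso e).homToEquiv.subsingleton_congr.2 ?_
      obtain ⟨k, hk⟩ : ∃ k : ℕ, (k : ℤ) = j + n + 2 := ⟨(j + n + 2).toNat, by omega⟩
      exact subsingleton_hom_single j _ k (by omega) (h n hn k (by omega) (by omega))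
    · exact ⟨fun x y => ((SF q).map_isZero (isZero_homology_cone E n hT q hq')).eq_of_tgt x y⟩

variable {C : Type u'} [Category.{v'} C] {J : GrothendieckTopology C} {G : C ⥤ A}

/-- An object is the derived limit of its truncations when these are locally stable. -/
theorem isRlimVia_truncTower (hG : LocalGen J G) (E : DerivedCategory A) [HasProduct (CohCx.truncTower E)]
    (B : Set C)
    (hB : ∀ U : C, ∃ S ∈ J U, ∀ ⦃V : C⦄ (g : V ⟶ U), S g →
      ∃ (W : C) (p : V ⟶ W) (q : W ⟶ U), W ∈ B ∧ p ≫ q = g)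
    (hst : ∀ m : ℤ, ∀ V ∈ B, ∃ n₀ : ℕ, ∀ T ∈ J V, ∃ S ∈ J V, ∀ ⦃W : C⦄ (g : W ⟶ V), S g →
      ∃ (Y : C) (p : W ⟶ Y) (q : Y ⟶ V), T q ∧ p ≫ q = g ∧
        Stable (CohCx.truncTower E) (CohCx.truncTowerMap E) m n₀ (G.obj Y)) :
    CohCx.IsRlimVia (CohCx.truncTower E) (CohCx.truncTowerMap E) E (CohCx.toTruncTower E) := by
  obtain ⟨L, f, c, hc⟩ := distinguished_cocone_triangle₁
    (Pi.lift fun n => Pi.π (CohCx.truncTower E) n - Pi.π (CohCx.truncTower E) (n + 1) ≫ CohCx.truncTowerMap E n)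
  have hf : Pi.lift (fun n => f ≫ Pi.π (CohCx.truncTower E) n) = f := Pi.hom_ext _ _ fun n => by simp
  have hL : CohCx.IsRlimVia (CohCx.truncTower E) (CohCx.truncTowerMap E) L
      (fun n => f ≫ Pi.π (CohCx.truncTower E) n) := ⟨c, by rw [hf]; exact hc⟩
  obtain ⟨y, hy⟩ := exists_lift hL (CohCx.toTruncTower E) (toTruncTower_comp E)
  have hyi : IsIso y := by
    rw [DerivedCategory.isIso_iff]
    intro m
    haveI := isIso_homology_of_stable hL hG B hB m (-m).toNat
      (fun n hn => isIso_homology_truncTowerMap E n m (by omega)) (hst m) (-m).toNat le_rfl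
    haveI : IsIso ((HH m).map y ≫ (HH m).map (f ≫ Pi.π (CohCx.truncTower E) (-m).toNat)) := by
      rw [← Functor.map_comp, hy]
      exact isIso_homology_toTruncTower E _ m (by omega)
    exact IsIso.of_isIso_comp_right _ ((HH m).map (f ≫ Pi.π (CohCx.truncTower E) (-m).toNat))
  have hy' : Pi.lift (CohCx.toTruncTower E) = y ≫ f := Pi.hom_ext _ _ fun n => by
    simp [← hy n]
  refine ⟨c ≫ (inv y)⟦(1 : ℤ)⟧', isomorphic_distinguished _ hc _
    (Triangle.isoMk _ _ (asIso y) (Iso.refl _) (Iso.refl _) ?_ ?_ ?_)⟩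
  · simpa using hy'
  · simp
  · simp

end Groth.Agent.SiteRlim
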