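import Groth.Agent.Lib.SiteRlim16.Vanish
import Groth.Agent.Lib.SiteRlim16.Trunc

/-! Classes over acyclic objects are sections of the cohomology objects; shifted classes. -/

set_option autoImplicit false
set_option linter.style.haveILetI false
set_option linter.unusedSectionVars false
set_option backward.isDefEq.respectTransparency false
set_option backward.isDefEq.respectTransparency.types false

universe w w' v u v' u' w₁ w₂

open CategoryTheory CategoryTheory.Limits CategoryTheory.Pretriangulated CategoryTheory.Triangulated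
open DerivedCategory.TStructure

namespace Groth.Agent.SiteRlim

section Shift

variable {T : Type w₁} [Category.{w₂} T] [HasShift T ℤ] (m : ℤ) {X₀ X' : T} (e : X'⟦m⟧ ≅ X₀)

/-- Classes in degree `m` as maps into the shift. -/
noncomputable def shiftTr {K : T} (f : X' ⟶ K) : X₀ ⟶ K⟦m⟧ := e.inv ≫ f⟦m⟧'

theorem shiftTr_comp {K L : T} (f : X' ⟶ K) (g : K ⟶ L) : shiftTr m e (f ≫ g) = shiftTr m e f ≫ g⟦m⟧' := by
  simp [shiftTr]

theorem bijective_shiftTr (K : T) : Function.Bijective (shiftTr m e : (X' ⟶ K) → _) := by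
  refine ⟨fun f g h => (shiftFunctor T m).map_injective ((cancel_epi e.inv).1 h), fun f => ?_⟩
  obtain ⟨g, hg⟩ := (shiftFunctor T m).map_surjective (e.hom ≫ f)
  exact ⟨g, by rw [shiftTr, hg, Iso.inv_hom_id_assoc]⟩

theorem shiftTr_sub [Preadditive T] [(shiftFunctor T m).Additive] {K : T} (f g : X' ⟶ K) :
    shiftTr m e (f - g) = shiftTr m e f - shiftTr m e g := by
  simp [shiftTr]

theorem shiftTr_add [Preadditive T] [(shiftFunctor T m).Additive] {K : T} (f g : X' ⟶ K) :
    shiftTr m e (f + g) = shiftTr m e f + shiftTr m e g := by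
  simp [shiftTr]

end Shift

variable {A : Type u} [Category.{v} A] [Abelian A] [HasDerivedCategory.{w} A]

local notation "HH" => DerivedCategory.homologyFunctor A
local notation "SF" => DerivedCategory.singleFunctor A

/-- `X[-m][m] ≅ X`. -/
noncomputable abbrev singleShift (X : A) (m : ℤ) : ((SF m).obj X)⟦m⟧ ≅ (SF 0).obj X :=
  ((DerivedCategory.singleFunctors A).shiftIso m 0 m (add_zero m)).app X

/-- A class killed by all projections of a derived limit vanishes when `R¹lim` vanishes one degree lower. -/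
theorem eq_zero_of_comp_single {K : ℕ → DerivedCategory A} {t : ∀ n, K (n + 1) ⟶ K n} [HasProduct K]
    {L : DerivedCategory A} {a : ∀ n, L ⟶ K n} (hL : CohCx.IsRlimVia K t L a) {X : A} {m : ℤ}
    (y : (SF m).obj X ⟶ L) (hy : ∀ n, y ≫ a n = 0)
    (h : ∀ w : ∀ n, (SF (m - 1)).obj X ⟶ K n,
      ∃ x : ∀ n, (SF (m - 1)).obj X ⟶ K n, ∀ n, x n - x (n + 1) ≫ t n = w n) : y = 0 := by
  refine eq_zero_of_comp hL y hy fun w => ?_
  let e := ((DerivedCategory.singleFunctors A).shiftIso (1 : ℤ) (m - 1) m (by lia)).app X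
  obtain ⟨x, hx⟩ := h fun n => e.inv ≫ w n
  exact ⟨fun n => e.hom ≫ x n, fun n => by rw [Category.assoc, ← Preadditive.comp_sub, hx, Iso.hom_inv_id_assoc]⟩

/-- The section attached to a class is additive. -/
theorem θ_add {X : A} {m : ℤ} {K : DerivedCategory A} (f g : (SF m).obj X ⟶ K) : θ (f + g) = θ f + θ g := by
  simp [θ]

theorem θ_sub {X : A} {m : ℤ} {K : DerivedCategory A} (f g : (SF m).obj X ⟶ K) : θ (f - g) = θ f - θ g := by
  simp [θ]

/-- Over an object without higher classes in the lower cohomology, classes are sections. -/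
theorem bijective_θ_of_isGE (X : A) (m : ℤ) (P : DerivedCategory A) (a : ℤ) (hP : P.IsGE a)
    (h : ∀ q, q < m → ∀ j, (j = m ∨ j = m + 1) → Subsingleton ((SF j).obj X ⟶ (SF q).obj ((HH q).obj P))) :
    Function.Bijective (θ : ((SF m).obj X ⟶ P) → _) := by
  haveI : DerivedCategory.IsLE ((SF m).obj X) m := inferInstance
  haveI : DerivedCategory.IsLE ((t.truncLT (m + 1)).obj P) m := t.isLE_truncLT_obj P (m + 1) m (by lia)
  haveI : DerivedCategory.IsGE ((t.truncLT (m + 1)).obj P) a := (inferInstance : t.IsGE ((t.truncLT (m + 1)).obj P) a)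
  let Q := (t.truncLT (m + 1)).obj P
  haveI : DerivedCategory.IsGE ((t.truncGE m).obj Q) m := (inferInstance : t.IsGE ((t.truncGE m).obj Q) m)
  haveI : DerivedCategory.IsLE ((t.truncGE m).obj Q) m := (inferInstance : t.IsLE ((t.truncGE m).obj Q) m)
  haveI := DerTrunc.isIso_homology_truncLTι P (m + 1) m (by lia)
  haveI := DerTrunc.isIso_homology_truncGEπ Q m m le_rfl
  -- the part below `m` has no classes
  have hlow : ∀ j, (j = m ∨ j = m + 1) → Subsingleton ((SF j).obj X ⟶ (t.truncLT m).obj Q) := fun j hj => by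
    haveI : DerivedCategory.IsLE ((t.truncLT m).obj Q) (m - 1) :=
      (inferInstance : t.IsLE ((t.truncLT m).obj Q) (m - 1))
    refine subsingleton_hom_of_homology j _ a ((inferInstance : t.IsGE ((t.truncLT m).obj Q) a)) fun q hq => ?_
    by_cases hqm : q < m
    · haveI := DerTrunc.isIso_homology_truncLTι Q m q hqm
      haveI := DerTrunc.isIso_homology_truncLTι P (m + 1) q (by lia)
      exact ((SF q).mapIso (asIso ((HH q).map ((t.truncLTι m).app Q)) ≪≫
        asIso ((HH q).map ((t.truncLTι (m + 1)).app P)))).homToEquiv.subsingleton_congr.2 (h q hqm j hj)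
    · exact ⟨fun x y => ((SF q).map_isZero
        (DerivedCategory.isZero_of_isLE _ (m - 1) q (by lia))).eq_of_tgt x y⟩
  haveI hlow₁ : Subsingleton ((SF m).obj X ⟶ ((t.truncLT m).obj Q)⟦(1 : ℤ)⟧) := by
    have := hlow (m + 1) (Or.inr rfl)
    let e := ((DerivedCategory.singleFunctors A).shiftIso (1 : ℤ) m (m + 1) (by lia)).app X
    refine ⟨fun x y => ?_⟩
    obtain ⟨x', hx'⟩ := (shiftFunctor (DerivedCategory A) (1 : ℤ)).map_surjective (e.hom ≫ x)
    obtain ⟨y', hy'⟩ := (shiftFunctor (DerivedCategory A) (1 : ℤ)).map_surjective (e.hom ≫ y)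
    rw [← cancel_epi e.hom, ← hx', ← hy', Subsingleton.elim x' y']
  constructor
  · refine (injective_iff_map_eq_zero (AddMonoidHom.mk' θ θ_add)).2 fun f hf => ?_
    change θ f = 0 at hf
    obtain ⟨f', rfl⟩ : ∃ f', f' ≫ (t.truncLTι (m + 1)).app P = f :=
      ⟨t.liftTruncLT f m (m + 1) rfl, t.liftTruncLT_ι f m (m + 1) rfl⟩
    suffices f' = 0 by rw [this, zero_comp]
    rw [θ_comp] at hf
    have hf' : θ f' = 0 := (cancel_mono ((HH m).map ((t.truncLTι (m + 1)).app P))).1 (by rw [hf, zero_comp])
    have h0 : f' ≫ (t.truncGEπ m).app Q = 0 := DerTrunc.hom_eq_zero_of_isLE_of_isGE m _ (by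
      rw [Functor.map_comp, (θ_eq_zero_iff f').1 hf', zero_comp])
    obtain ⟨g, hg⟩ := Triangle.coyoneda_exact₂ _ (t.triangleLTGE_distinguished m Q) f' h0
    have hg0 : g = 0 := (hlow m (Or.inl rfl)).elim _ _
    rw [hg, hg0]
    exact zero_comp
  · intro s
    obtain ⟨u, hu⟩ := exists_θ_eq_of_concentrated (K := (t.truncGE m).obj Q)
      (s ≫ inv ((HH m).map ((t.truncLTι (m + 1)).app P)) ≫ (HH m).map ((t.truncGEπ m).app Q))
    obtain ⟨v, hv⟩ := Triangle.coyoneda_exact₃ _ (t.triangleLTGE_distinguished m Q) u (hlow₁.elim _ _)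
    refine ⟨v ≫ (t.truncLTι (m + 1)).app P, ?_⟩
    have h2 : θ v ≫ (HH m).map ((t.truncGEπ m).app Q) = θ u := by
      rw [← θ_comp]
      exact congrArg θ hv.symm
    rw [hu, ← Category.assoc, cancel_mono] at h2
    rw [θ_comp, h2]
    simp

end Groth.Agent.SiteRlim

namespace Groth.Agent.SiteRlim

variable {A : Type (u + 1)} [Category.{u} A] [Abelian A] [HasDerivedCategory.{w} A] [HasExt.{w'} A]

/-- Classes are sections of cohomology when the object is the derived limit of its truncations. -/
theorem bijective_θ_of_isRlimVia (X : A) (m : ℤ) (E : DerivedCategory A) [HasProduct (CohCx.truncTower E)]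
    (hE : CohCx.IsRlimVia (CohCx.truncTower E) (CohCx.truncTowerMap E) E (CohCx.toTruncTower E))
    (h : ∀ (k : ℕ) (q : ℤ), 1 ≤ k →
      Subsingleton (Abelian.Ext.{w'} X ((DerivedCategory.homologyFunctor A q).obj E) k)) :
    Function.Bijective (θ : ((DerivedCategory.singleFunctor A m).obj X ⟶ E) → _) := by
  have hst : Stable (CohCx.truncTower E) (CohCx.truncTowerMap E) m (-m).toNat X :=
    stable_truncTower E m _ fun n hn k _ _ => h k _ (by omega)
  haveI := isIso_homology_toTruncTower E (-m).toNat m (by omega)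
  have hb := bijective_θ_of_isGE X m (CohCx.truncTower E (-m).toNat) (-((-m).toNat : ℤ))
    (inferInstance : t.IsGE ((t.truncGE (-((-m).toNat : ℤ))).obj E) _) fun q hq j hj => by
      obtain ⟨k, hk⟩ : ∃ k : ℕ, q + k = j := ⟨(j - q).toNat, by omega⟩
      by_cases hq' : -((-m).toNat : ℤ) ≤ q
      · haveI := isIso_homology_toTruncTower E (-m).toNat q hq'
        exact ((DerivedCategory.singleFunctor A q).mapIso
          (asIso ((DerivedCategory.homologyFunctor A q).map (CohCx.toTruncTower E (-m).toNat)))).homToEquiv.subsingleton_congr.1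
            (subsingleton_hom_single j q k hk (h k q (by omega)))
      · exact ⟨fun x y => ((DerivedCategory.singleFunctor A q).map_isZero
          (isZero_homology_truncTower E _ q (by omega))).eq_of_tgt x y⟩
  have hcomp : (fun s => s ≫ (DerivedCategory.homologyFunctor A m).map (CohCx.toTruncTower E (-m).toNat)) ∘
      (θ : ((DerivedCategory.singleFunctor A m).obj X ⟶ E) → _) = θ ∘ fun f => f ≫ CohCx.toTruncTower E (-m).toNat := by
    funext f
    exact (θ_comp _ _).symm
  exact (Function.Bijective.of_comp_iff'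
    (asIso ((DerivedCategory.homologyFunctor A m).map (CohCx.toTruncTower E (-m).toNat))).homToEquiv.bijective _).1
      (hcomp ▸ hb.comp (hst.bijective hE))

end Groth.Agent.SiteRlim
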