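import Mathlib.CategoryTheory.Sites.Grothendieck

/-! Covering families as covering sieves with factorisations. -/

set_option autoImplicit false

universe v u t

open CategoryTheory

namespace Groth.Agent.SiteRlim

variable {C : Type u} [Category.{v} C] {J : GrothendieckTopology C}

theorem factor_of_cover (B : Set C)
    (h : ∀ U : C, ∃ (ι : Type t) (Y : ι → C) (f : ∀ i, Y i ⟶ U), Sieve.ofArrows Y f ∈ J U ∧ ∀ i, Y i ∈ B)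
    (U : C) : ∃ S ∈ J U, ∀ ⦃V : C⦄ (g : V ⟶ U), S g →
      ∃ (W : C) (p : V ⟶ W) (q : W ⟶ U), W ∈ B ∧ p ≫ q = g := by
  obtain ⟨ι, Y, f, hf, hY⟩ := h U
  refine ⟨Sieve.ofArrows Y f, hf, ?_⟩
  rintro W g ⟨_, a, b, ⟨i⟩, rfl⟩
  exact ⟨_, a, f i, hY i, rfl⟩

theorem factor_of_cofinal {V : C} {Q : C → Prop}
    (h : ∀ T ∈ J V, ∃ (ι : Type t) (Y : ι → C) (f : ∀ i, Y i ⟶ V),
      (∀ i, T.arrows (f i)) ∧ Sieve.ofArrows Y f ∈ J V ∧ ∀ i, Q (Y i))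
    (T : Sieve V) (hT : T ∈ J V) : ∃ S ∈ J V, ∀ ⦃W : C⦄ (g : W ⟶ V), S g →
      ∃ (Y : C) (p : W ⟶ Y) (q : Y ⟶ V), T q ∧ p ≫ q = g ∧ Q Y := by
  obtain ⟨ι, Y, f, hfT, hf, hQ⟩ := h T hT
  refine ⟨Sieve.ofArrows Y f, hf, ?_⟩
  rintro W g ⟨_, a, b, ⟨i⟩, rfl⟩
  exact ⟨_, a, f i, hfT i, rfl, hQ i⟩

end Groth.Agent.SiteRlim
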