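import Groth.Agent.Lib.SiteRlim16.Vanish
import Groth.Agent.Lib.SiteCoh.ModuleExt
import Groth.Agent.Lib.SiteCoh.Basic
import Groth.Agent.Lib.ModFlat16.Generators
import Groth.Prelude.Def_CohCx

/-! Local generators for abelian sheaves and for modules on a site, and their `Ext` groups. -/

universe w u v u'

open CategoryTheory CategoryTheory.Limits Opposite Abelian

set_option autoImplicit false
set_option linter.style.haveILetI false
set_option backward.isDefEq.respectTransparency false
set_option backward.isDefEq.respectTransparency.types false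

namespace Groth.Agent.SiteRlim

variable {C : Type u} [SmallCategory C] {J : GrothendieckTopology C}

section Transfer

variable {A : Type u'} [Category.{v} A] [Abelian A] {G : C ⥤ A} (T : A ⥤ Sheaf J AddCommGrpCat.{u})
  [T.Faithful] [T.Additive] [T.PreservesEpimorphisms]
  (e : ∀ (U : C) (M : A), (G.obj U ⟶ M) ≃ (T.obj M).obj.obj (op U))
  (hpre : ∀ {U V : C} (g : V ⟶ U) (M : A) (φ : G.obj U ⟶ M),
    e V M (G.map g ≫ φ) = (T.obj M).obj.map g.op (e U M φ))
  (hpost : ∀ {U : C} {M N : A} (φ : G.obj U ⟶ M) (f : M ⟶ N),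
    e U N (φ ≫ f) = (T.map f).hom.app (op U) (e U M φ))

include e hpre hpost in
/-- Generators representing sections satisfy the local axioms. -/
theorem localGen_of_sections : LocalGen J G where
  sep {U} M φ S hS h := by
    refine (e U M).injective ((Presheaf.IsSheaf.isSeparated (T.obj M).property) U S hS _ _ fun V g hg => ?_)
    change (T.obj M).obj.map g.op (e U M φ) = (T.obj M).obj.map g.op (e U M 0)
    rw [← hpre, ← hpre, h g hg, comp_zero]
  lift {U} M N π _ φ := by
    haveI : Sheaf.IsLocallySurjective (T.map π) := (Sheaf.isLocallySurjective_iff_epi' _ _).2 inferInstance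
    refine ⟨Presheaf.imageSieve (T.map π).hom (e U N φ),
      Presheaf.imageSieve_mem J (T.map π).hom (e U N φ), fun {V} g hg => ?_⟩
    obtain ⟨t, ht⟩ := hg
    exact ⟨(e V M).symm t, (e V N).injective (by rw [hpost, Equiv.apply_symm_apply, hpre]; exact ht)⟩
  gen {M N} f h := by
    refine T.map_injective ?_
    rw [Functor.map_zero]
    refine Sheaf.hom_ext (NatTrans.ext (funext fun U => AddCommGrpCat.hom_ext (AddMonoidHom.ext fun x => ?_)))
    have h1 := hpost ((e U.unop M).symm x) f
    rw [h, Equiv.apply_symm_apply] at h1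
    refine h1.symm.trans ?_
    have h2 := hpost (0 : G.obj U.unop ⟶ M) (0 : M ⟶ N)
    rw [Functor.map_zero, comp_zero] at h2
    exact h2

end Transfer

/-- The free abelian sheaves of the objects of a site. -/
noncomputable abbrev genAb (J : GrothendieckTopology C) : C ⥤ Sheaf J AddCommGrpCat.{u} :=
  yoneda ⋙ (Functor.whiskeringRight _ _ _).obj AddCommGrpCat.free.{u} ⋙ presheafToSheaf J AddCommGrpCat.{u}

theorem secEquiv_pre {U V : C} (g : V ⟶ U) (F : Sheaf J AddCommGrpCat.{u}) (φ : (genAb J).obj U ⟶ F) :
    SiteCoh.secEquiv V F ((genAb J).map g ≫ φ) = F.obj.map g.op (SiteCoh.secEquiv U F φ) := by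
  simp only [SiteCoh.secEquiv, Equiv.trans_apply]
  erw [Adjunction.homEquiv_naturality_left, Adjunction.homEquiv_naturality_left]
  exact (yonedaEquiv_naturality _ g).symm

theorem localGen_genAb (J : GrothendieckTopology C) : LocalGen J (genAb J) :=
  localGen_of_sections (𝟭 _) (fun U F => SiteCoh.secEquiv U F) secEquiv_pre
    fun φ f => SiteCoh.secEquiv_comp _ φ f

variable (O : Sheaf J CommRingCat.{u})

/-- The modules `j_{U!} O_U`, as a functor of the object. -/
noncomputable def genMod : C ⥤ ModSite.Mod O where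
  obj U := ModSite.freeOn O U
  map {V U} g := (ModFlat16.freeOnHom O V (ModSite.freeOn O U)).symm
    ((ModSite.freeOn O U).val.map g.op (ModFlat16.freeOnHom O U _ (𝟙 _)))
  map_id U := (ModFlat16.freeOnHom O U _).injective (by
    rw [Equiv.apply_symm_apply, op_id, (ModSite.freeOn O U).val.map_id]
    rfl)
  map_comp {W V U} h g := (ModFlat16.freeOnHom O W _).injective (by
    rw [ModFlat16.freeOnHom_comp, Equiv.apply_symm_apply, Equiv.apply_symm_apply,
      PresheafOfModules.naturality_apply, ← ModFlat16.freeOnHom_comp, Category.id_comp,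
      Equiv.apply_symm_apply, op_comp, PresheafOfModules.map_comp_apply])

theorem freeOnHom_pre {U V : C} (g : V ⟶ U) (M : ModSite.Mod O) (φ : (genMod O).obj U ⟶ M) :
    ModFlat16.freeOnHom O V M ((genMod O).map g ≫ φ) = M.val.map g.op (ModFlat16.freeOnHom O U M φ) := by
  rw [ModFlat16.freeOnHom_comp]
  simp only [genMod]
  rw [Equiv.apply_symm_apply, PresheafOfModules.naturality_apply, ← ModFlat16.freeOnHom_comp, Category.id_comp]

instance preservesFiniteColimits_toSheaf :
    PreservesFiniteColimits (SheafOfModules.toSheaf.{u} (ModSite.ringSh O)) :=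
  haveI : PreservesColimitsOfSize.{u, u} (SheafOfModules.toSheaf.{u} (ModSite.ringSh O)) := ⟨inferInstance⟩
  PreservesColimitsOfSize.preservesFiniteColimits _

theorem localGen_genMod : LocalGen J (genMod O) :=
  haveI : (SheafOfModules.toSheaf.{u} (ModSite.ringSh O)).PreservesEpimorphisms := inferInstance
  localGen_of_sections (SheafOfModules.toSheaf.{u} (ModSite.ringSh O))
    (fun U M => ModFlat16.freeOnHom O U M) (fun g M φ => freeOnHom_pre O g M φ)
    (fun φ f => ModFlat16.freeOnHom_comp O φ f)

/-- The universal section of `j_{U!} O_U`. -/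
noncomputable def univSection (U : C) :
    SiteCoh.fr J U ⟶ (SheafOfModules.toSheaf.{u} (ModSite.ringSh O)).obj (ModSite.freeOn O U) :=
  (SiteCoh.secEquiv U _).symm (ModFlat16.freeOnHom O U _ (𝟙 (ModSite.freeOn O U)))

theorem bijective_univSection (U : C) (M : ModSite.Mod O) :
    Function.Bijective fun f : ModSite.freeOn O U ⟶ M =>
      univSection O U ≫ (SheafOfModules.toSheaf.{u} (ModSite.ringSh O)).map f := by
  have key : ∀ f : ModSite.freeOn O U ⟶ M,
      univSection O U ≫ (SheafOfModules.toSheaf.{u} (ModSite.ringSh O)).map f =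
        (SiteCoh.secEquiv U _).symm (ModFlat16.freeOnHom O U M f) := fun f => by
    rw [univSection, SiteCoh.secEquiv_symm_comp]
    refine congrArg _ ?_
    conv_rhs => rw [← Category.id_comp f, ModFlat16.freeOnHom_comp]
    rfl
  rw [show (fun f : ModSite.freeOn O U ⟶ M => univSection O U ≫ (SheafOfModules.toSheaf _).map f) =
    (SiteCoh.secEquiv U _).symm ∘ (ModFlat16.freeOnHom O U M) from funext key]
  exact (Equiv.bijective _).comp (Equiv.bijective _)

/-- `Ext` out of `j_{U!} O_U` is cohomology on `U`. -/
theorem subsingleton_ext_freeOn [HasExt.{u} (ModSite.Mod O)] (U : C) (M : ModSite.Mod O) (k : ℕ)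
    (h : Subsingleton (ModSite.HU O M k U)) : Subsingleton (Ext.{u} (ModSite.freeOn O U) M k) :=
  haveI : Subsingleton (Ext.{u} (SiteCoh.fr J U)
    ((SheafOfModules.toSheaf.{u} (ModSite.ringSh O)).obj M) k) := h
  (SiteCoh.bijective_extCompHom (R := SheafOfModules.toSheaf.{u} (ModSite.ringSh O)) (univSection O U)
    (bijective_univSection O U)
    (fun I _ k => SiteCoh.subsingleton_ext_frP (SiteCoh.isTotallyAcyclic_injective _ I) (yoneda.obj U) k)
    k M).1.subsingleton

end Groth.Agent.SiteRlim
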