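import Groth.Agent.Lib.SiteRlim16.Vanish
import Groth.Agent.Lib.SiteCmp16.CohIn
import Mathlib.Algebra.Order.Group.Int
import Mathlib.Order.Interval.Finset.Basic
import Mathlib.Data.Int.Interval

/-! Derived limits of eventually constant systems with cohomology in a weak Serre subcategory. -/

set_option autoImplicit false
set_option linter.style.haveILetI false
set_option linter.unusedSectionVars false
set_option backward.isDefEq.respectTransparency false
set_option backward.isDefEq.respectTransparency.types false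

universe w w' u v v' u'

open CategoryTheory CategoryTheory.Limits CategoryTheory.Pretriangulated CategoryTheory.Triangulated
open DerivedCategory.TStructure DerivedCategory.HomologySequence

namespace Groth.Agent.SiteRlim

variable {A : Type u} [Category.{v} A] [Abelian A] [HasDerivedCategory.{w} A] [HasExt.{w'} A]
  (P : ObjectProperty A) [WSerre.IsWeakSerre P] {K : ℕ → DerivedCategory A} {t' : ∀ n, K (n + 1) ⟶ K n}

local notation "HH" => DerivedCategory.homologyFunctor A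
local notation "SF" => DerivedCategory.singleFunctor A

/-- The system of classes over an object of bounded dimension for `P` is stable. -/
theorem stable_of_cohIn (hcoh : ∀ n, WSerre.cohIn P (K n)) (hbdd : ∀ n, ∃ a : ℤ, (K n).IsGE a)
    (N : ℤ → ℕ) (hN : ∀ j n, N j ≤ n → IsIso ((HH j).map (t' n))) (m : ℤ) (d : ℕ) {X : A}
    (hX : ∀ F, P F → ∀ k : ℕ, d < k → Subsingleton (Abelian.Ext.{w'} X F k)) :
    Stable K t' m ((Finset.Icc (m - 1 - d) (m + 1)).sup N) X := by
  refine stable_of_cones fun n hn Z β γ hT j hj₁ hj₂ => ?_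
  obtain ⟨a₁, ha₁⟩ := hbdd (n + 1)
  obtain ⟨a₂, ha₂⟩ := hbdd n
  refine subsingleton_hom_of_homology j Z (min (a₁ - 1) a₂) ?_ fun q hq => ?_
  · rw [DerivedCategory.isGE_iff]
    intro i hi
    exact (exact₃ _ hT i (i + 1) rfl).isZero_of_both_zeros
      ((DerivedCategory.isZero_of_isGE (K n) a₂ i (by omega)).eq_of_src _ _)
      ((DerivedCategory.isZero_of_isGE (K (n + 1)) a₁ (i + 1) (by omega)).eq_of_tgt _ _)
  · by_cases hq' : j - d ≤ q
    · have hq₁ : N q ≤ n := (Finset.le_sup (Finset.mem_Icc.2 ⟨by omega, by omega⟩)).trans hn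
      have hq₂ : N (q + 1) ≤ n := (Finset.le_sup (Finset.mem_Icc.2 ⟨by omega, by omega⟩)).trans hn
      have := hN q n hq₁
      have := hN (q + 1) n hq₂
      have h0 : IsZero ((HH q).obj Z) := (exact₃ _ hT q (q + 1) rfl).isZero_of_both_zeros
        ((epi_homologyMap_mor₁_iff _ hT q).1 (inferInstanceAs (Epi ((HH q).map (t' n)))))
        ((mono_homologyMap_mor₁_iff _ hT q (q + 1) rfl).1 (inferInstanceAs (Mono ((HH (q + 1)).map (t' n)))))
      exact ⟨fun x y => ((SF q).map_isZero h0).eq_of_tgt x y⟩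
    · have hZ : P ((HH q).obj Z) :=
        WayOut.cohIn_obj₂ P _ (rot_of_distTriang _ hT) (hcoh n) (WayOut.cohIn_shift P 1 (hcoh (n + 1))) q
      obtain ⟨k, hk⟩ : ∃ k : ℕ, q + k = j := ⟨(j - q).toNat, by omega⟩
      exact subsingleton_hom_single j q k hk (hX _ hZ k (by omega))

variable {C : Type u'} [Category.{v'} C] {J : GrothendieckTopology C} {G : C ⥤ A} [HasProduct K]
  {L : DerivedCategory A} {a : ∀ n, L ⟶ K n}

/-- The cohomology of the derived limit of an eventually constant system is its eventual value. -/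
theorem isIso_homology_of_eventually (hG : LocalGen J G) (B : Set C)
    (hB : ∀ U : C, ∃ S ∈ J U, ∀ ⦃V : C⦄ (g : V ⟶ U), S g →
      ∃ (W : C) (p : V ⟶ W) (q : W ⟶ U), W ∈ B ∧ p ≫ q = g)
    (hA : ∀ V ∈ B, ∃ d : ℕ, ∀ T ∈ J V, ∃ S ∈ J V, ∀ ⦃W : C⦄ (g : W ⟶ V), S g →
      ∃ (Y : C) (p : W ⟶ Y) (q : Y ⟶ V), T q ∧ p ≫ q = g ∧
        ∀ F, P F → ∀ k : ℕ, d < k → Subsingleton (Abelian.Ext.{w'} (G.obj Y) F k))
    (hcoh : ∀ n, WSerre.cohIn P (K n)) (hbdd : ∀ n, ∃ a : ℤ, (K n).IsGE a)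
    (hconst : ∀ j : ℤ, ∃ n₀ : ℕ, ∀ n, n₀ ≤ n → IsIso ((HH j).map (t' n)))
    (hL : CohCx.IsRlimVia K t' L a) (j : ℤ) (n₁ : ℕ)
    (hn₁ : ∀ n, n₁ ≤ n → IsIso ((HH j).map (t' n))) (n : ℕ) (hn : n₁ ≤ n) :
    IsIso ((HH j).map (a n)) := by
  choose N hN using hconst
  refine isIso_homology_of_stable hL hG B hB j n₁ hn₁ (fun V hV => ?_) n hn
  obtain ⟨d, hd⟩ := hA V hV
  refine ⟨(Finset.Icc (j - 1 - d) (j + 1)).sup N, fun T hT => ?_⟩
  obtain ⟨S, hS, h⟩ := hd T hT
  refine ⟨S, hS, fun W g hg => ?_⟩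
  obtain ⟨Y, p, q, hq, hpq, hY⟩ := h g hg
  exact ⟨Y, p, q, hq, hpq, stable_of_cohIn P hcoh hbdd N hN j d hY⟩

end Groth.Agent.SiteRlim
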