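import Groth.Agent.Lib.SiteRlim16.Acyclic
import Groth.Agent.Lib.SiteRlim16.Instances
import Groth.Agent.Lib.SiteRlim16.Covers
import Groth.Agent.Lib.KInj.Derived
import Groth.Prelude.Def_CohCx

/-! Hypercohomology classes of complexes of abelian sheaves and sections of cohomology sheaves. -/

set_option autoImplicit false
set_option linter.style.haveILetI false
set_option linter.unusedSectionVars false
set_option backward.isDefEq.respectTransparency false
set_option backward.isDefEq.respectTransparency.types false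

universe w u

open CategoryTheory CategoryTheory.Limits CategoryTheory.Pretriangulated Opposite

namespace Groth.Agent.SiteRlim

variable {C : Type u} [SmallCategory C] {J : GrothendieckTopology C}
  [HasDerivedCategory.{w} (Sheaf J AddCommGrpCat.{u})]


theorem secEquiv_eq_app (U : C) (F : (Sheaf J AddCommGrpCat.{u})) (x : (genAb J).obj U ⟶ F) :
    SiteCoh.secEquiv U F x = x.hom.app (op U) (SiteCoh.secEquiv U _ (𝟙 ((genAb J).obj U))) := by
  conv_lhs => rw [← Category.id_comp x]
  exact SiteCoh.secEquiv_comp U _ x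

theorem secEquiv_add (U : C) (F : (Sheaf J AddCommGrpCat.{u})) (x y : (genAb J).obj U ⟶ F) :
    SiteCoh.secEquiv U F (x + y) = SiteCoh.secEquiv U F x + SiteCoh.secEquiv U F y := by
  rw [secEquiv_eq_app U F (x + y), secEquiv_eq_app U F x, secEquiv_eq_app U F y]
  rfl

theorem secEquiv_zero (U : C) (F : (Sheaf J AddCommGrpCat.{u})) : SiteCoh.secEquiv U F (0 : (genAb J).obj U ⟶ F) = 0 := by
  rw [secEquiv_eq_app U F 0]
  rfl

/-- Classes in `Hom(ℤ_U[-m], K)` are hypercohomology classes. -/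
noncomputable def toHDU {U : C} {m : ℤ} {K : DerivedCategory (Sheaf J AddCommGrpCat.{u})} (f : (DerivedCategory.singleFunctor (Sheaf J AddCommGrpCat.{u}) m).obj ((genAb J).obj U) ⟶ K) :
    CohCx.HDU K m U :=
  shiftTr m (singleShift ((genAb J).obj U) m) f

theorem bijective_toHDU (U : C) (m : ℤ) (K : DerivedCategory (Sheaf J AddCommGrpCat.{u})) :
    Function.Bijective (toHDU : ((DerivedCategory.singleFunctor (Sheaf J AddCommGrpCat.{u}) m).obj ((genAb J).obj U) ⟶ K) → CohCx.HDU K m U) :=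
  bijective_shiftTr m (singleShift _ m) K

theorem toHDU_comp {U : C} {m : ℤ} {K L : DerivedCategory (Sheaf J AddCommGrpCat.{u})} (f : (DerivedCategory.singleFunctor (Sheaf J AddCommGrpCat.{u}) m).obj ((genAb J).obj U) ⟶ K)
    (g : K ⟶ L) : toHDU (f ≫ g) = toHDU f ≫ (shiftFunctor _ m).map g :=
  shiftTr_comp m _ f g

theorem toHDU_pre {U V : C} (r : V ⟶ U) {m : ℤ} {K : DerivedCategory (Sheaf J AddCommGrpCat.{u})}
    (f : (DerivedCategory.singleFunctor (Sheaf J AddCommGrpCat.{u}) m).obj ((genAb J).obj U) ⟶ K) :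
    toHDU ((DerivedCategory.singleFunctor (Sheaf J AddCommGrpCat.{u}) m).map ((genAb J).map r) ≫ f) = (DerivedCategory.singleFunctor (Sheaf J AddCommGrpCat.{u}) 0).map ((genAb J).map r) ≫ toHDU f := by
  simp only [toHDU, shiftTr, Functor.map_comp]
  rw [← Category.assoc, ← Category.assoc]
  congr 1
  exact (((DerivedCategory.singleFunctors (Sheaf J AddCommGrpCat.{u})).shiftIso m 0 m (add_zero m)).inv.naturality _).symm

/-- Vanishing of `R¹lim` of hypercohomology, for maps. -/
theorem exists_sub_of_limOne {K : ℕ → DerivedCategory (Sheaf J AddCommGrpCat.{u})} {t : ∀ n, K (n + 1) ⟶ K n} {U : C} {m : ℤ}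
    (h : CohCx.LimOneIsZero (fun n => CohCx.HDU (K n) m U)
      (fun n => Preadditive.rightComp _ ((shiftFunctor (DerivedCategory (Sheaf J AddCommGrpCat.{u})) m).map (t n))))
    (w : ∀ n, (DerivedCategory.singleFunctor (Sheaf J AddCommGrpCat.{u}) m).obj ((genAb J).obj U) ⟶ K n) :
    ∃ x : ∀ n, (DerivedCategory.singleFunctor (Sheaf J AddCommGrpCat.{u}) m).obj ((genAb J).obj U) ⟶ K n, ∀ n, x n - x (n + 1) ≫ t n = w n := by
  obtain ⟨a, ha⟩ := h fun n => toHDU (w n)
  choose x hx using fun n => (bijective_toHDU U m (K n)).2 (a n)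
  refine ⟨x, fun n => (bijective_toHDU U m (K n)).1 ?_⟩
  have := congrFun ha n
  simp only [toHDU, shiftTr_sub, shiftTr_comp] at hx this ⊢
  rw [hx, hx]
  exact this

theorem eq_zero_of_limOne {K : ℕ → DerivedCategory (Sheaf J AddCommGrpCat.{u})} {t : ∀ n, K (n + 1) ⟶ K n} [HasProduct K]
    {L : DerivedCategory (Sheaf J AddCommGrpCat.{u})} {a : ∀ n, L ⟶ K n} (hL : CohCx.IsRlimVia K t L a) {U : C} {m : ℤ}
    (h : CohCx.LimOneIsZero (fun n => CohCx.HDU (K n) (m - 1) U)
      (fun n => Preadditive.rightComp _ ((shiftFunctor (DerivedCategory (Sheaf J AddCommGrpCat.{u})) (m - 1)).map (t n))))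
    (y : (DerivedCategory.singleFunctor (Sheaf J AddCommGrpCat.{u}) m).obj ((genAb J).obj U) ⟶ L) (hy : ∀ n, y ≫ a n = 0) : y = 0 :=
  eq_zero_of_comp_single hL y hy (exists_sub_of_limOne h)

/-- The hypercohomology class goes to the section of the cohomology sheaf. -/
noncomputable def classSection (K : DerivedCategory (Sheaf J AddCommGrpCat.{u})) (m : ℤ) (U : C) :
    CohCx.HDU K m U →+ (CohCx.HD K m).obj.obj (op U) :=
  AddMonoidHom.mk' (fun x => SiteCoh.secEquiv U _ (θ ((Equiv.ofBijective _ (bijective_toHDU U m K)).symm x)))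
    fun x y => by
      obtain ⟨f, rfl⟩ := (bijective_toHDU U m K).2 x
      obtain ⟨g, rfl⟩ := (bijective_toHDU U m K).2 y
      rw [show toHDU f + toHDU g = toHDU (f + g) from (shiftTr_add m _ f g).symm]
      simp only [Equiv.ofBijective_symm_apply_apply, θ_add]
      exact secEquiv_add U _ _ _

theorem classSection_toHDU {K : DerivedCategory (Sheaf J AddCommGrpCat.{u})} {m : ℤ} {U : C}
    (f : (DerivedCategory.singleFunctor (Sheaf J AddCommGrpCat.{u}) m).obj ((genAb J).obj U) ⟶ K) :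
    classSection K m U (toHDU f) = SiteCoh.secEquiv U _ (θ f) := by
  change SiteCoh.secEquiv U _ (θ ((Equiv.ofBijective _ (bijective_toHDU U m K)).symm (toHDU f))) = _
  rw [Equiv.ofBijective_symm_apply_apply]

end Groth.Agent.SiteRlim

namespace Groth.Agent.SiteRlim

variable {C : Type u} [SmallCategory C] {J : GrothendieckTopology C}
  [HasDerivedCategory.{w} (Sheaf J AddCommGrpCat.{u})]

theorem classSection_pre (K : DerivedCategory (Sheaf J AddCommGrpCat.{u})) (m : ℤ) {U V : C} (r : V ⟶ U)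
    (x : CohCx.HDU K m U) :
    classSection K m V ((DerivedCategory.singleFunctor _ 0).map ((genAb J).map r) ≫ x) =
      (CohCx.HD K m).obj.map r.op (classSection K m U x) := by
  obtain ⟨f, rfl⟩ := (bijective_toHDU U m K).2 x
  rw [← toHDU_pre, classSection_toHDU, classSection_toHDU, θ_pre, secEquiv_pre]

/-- A member of the class `B` below every covering sieve. -/
theorem exists_refinement_cover (B : Set C)
    (hB : ∀ U : C, ∃ (ι : Type u) (Y : ι → C) (f : ∀ i, Y i ⟶ U), Sieve.ofArrows Y f ∈ J U ∧ ∀ i, Y i ∈ B)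
    {V : C} (T : Sieve V) (hT : T ∈ J V) : ∃ S ∈ J V, ∀ ⦃W : C⦄ (g : W ⟶ V), S g →
      ∃ (Y : C) (a : W ⟶ Y) (b : Y ⟶ V), T b ∧ a ≫ b = g ∧ Y ∈ B := by
  choose ι Y f hf hY using fun W : C => hB W
  refine ⟨Sieve.bind T.arrows fun W g _ => Sieve.ofArrows (Y W) (f W), J.bind_covering hT fun W g _ => hf W, ?_⟩
  rintro W g ⟨W', r, g', hg', ⟨_, a, b, ⟨i⟩, rfl⟩, rfl⟩
  exact ⟨_, a, f W' i ≫ g', T.downward_closed hg' _, (Category.assoc _ _ _).symm, hY W' i⟩

theorem hasProduct_nat (E : ℕ → DerivedCategory (Sheaf J AddCommGrpCat.{u})) : HasProduct E := by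
  choose I hI he using fun n => KInjLib.exists_iso_kInjective (E n)
  exact KInjLib.hasProduct_derivedCategory E I hI fun n => (he n).some

/-- An object with acyclic cohomology sheaves over `B` has classes equal to sections over `B`. -/
theorem bijective_θ_of_acyclic (K : DerivedCategory (Sheaf J AddCommGrpCat.{u})) (B : Set C)
    (hB : ∀ U : C, ∃ (ι : Type u) (Y : ι → C) (f : ∀ i, Y i ⟶ U), Sieve.ofArrows Y f ∈ J U ∧ ∀ i, Y i ∈ B)
    (h : ∀ U ∈ B, ∀ (p : ℕ) (q : ℤ), Subsingleton (CohSite.HU (CohCx.HD K q) (p + 1) U))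
    (U : C) (hU : U ∈ B) (m : ℤ) :
    Function.Bijective (θ : ((DerivedCategory.singleFunctor (Sheaf J AddCommGrpCat.{u}) m).obj ((genAb J).obj U) ⟶ K) → _) := by
  haveI := hasProduct_nat (CohCx.truncTower K)
  refine bijective_θ_of_isRlimVia.{w, u} ((genAb J).obj U) m K
    (isRlimVia_truncTower (localGen_genAb J) K B (factor_of_cover B hB) fun m V _ =>
      ⟨(-m).toNat, fun T hT => ?_⟩) fun k q hk => ?_
  · obtain ⟨S, hS, hS'⟩ := exists_refinement_cover B hB T hT
    refine ⟨S, hS, fun W g hg => ?_⟩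
    obtain ⟨Y, a, b, hb, hab, hY⟩ := hS' g hg
    refine ⟨Y, a, b, hb, hab, stable_truncTower.{w, u} K m _ fun n hn k _ _ => ?_⟩
    obtain ⟨p, rfl⟩ : ∃ p : ℕ, k = p + 1 := ⟨k - 1, by omega⟩
    exact h Y hY p _
  · obtain ⟨p, rfl⟩ : ∃ p : ℕ, k = p + 1 := ⟨k - 1, by omega⟩
    exact h U hU p q

end Groth.Agent.SiteRlim

namespace Groth.Agent.SiteRlim

theorem subsingleton_ext_of_hom {A : Type (u + 1)} [Category.{u} A] [Abelian A] [HasDerivedCategory.{w} A]
    [HasExt.{u} A] (X M : A) (k : ℕ)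
    (h : Subsingleton ((DerivedCategory.singleFunctor A (k : ℤ)).obj X ⟶ (DerivedCategory.singleFunctor A 0).obj M)) :
    Subsingleton (Abelian.Ext.{u} X M k) := by
  haveI := h
  haveI := (bijective_shiftTr (k : ℤ) (singleShift X (k : ℤ)) ((DerivedCategory.singleFunctor A 0).obj M)).2.subsingleton
  exact Abelian.Ext.homEquiv.injective.subsingleton

end Groth.Agent.SiteRlim
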