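import Groth.Agent.Lib.SiteRlim16.Trunc
import Groth.Agent.Lib.SiteRlim16.Instances

/-! Derived limits of truncations under a pointwise bound. -/

set_option autoImplicit false
set_option linter.style.haveILetI false
set_option linter.unusedSectionVars false
set_option backward.isDefEq.respectTransparency false
set_option backward.isDefEq.respectTransparency.types false

universe w v u v' u'

open CategoryTheory CategoryTheory.Limits CategoryTheory.Pretriangulated

namespace Groth.Agent.SiteRlim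

variable {A : Type u} [Category.{v} A] [Abelian A] {C : Type u'} [Category.{v'} C]
  {J : GrothendieckTopology C} {G : C ⥤ A} [HasDerivedCategory.{w} A]

local notation "HH" => DerivedCategory.homologyFunctor A
local notation "SF" => DerivedCategory.singleFunctor A

variable {K : ℕ → DerivedCategory A} {t : ∀ n, K (n + 1) ⟶ K n} [HasProduct K]
  {L : DerivedCategory A} {a : ∀ n, L ⟶ K n}

/-- A derived limit of a system that is eventually constant near every member of a family, the stage
depending on the member, has the expected cohomology. -/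
theorem isIso_homology_of_pointwise (hL : CohCx.IsRlimVia K t L a) (hG : LocalGen J G)
    (m : ℤ) (n₁ : ℕ) (hconst : ∀ n, n₁ ≤ n → IsIso ((HH m).map (t n)))
    (hst : ∀ V : C, ∃ (I : Type v') (n₀ : I → ℕ), ∀ T : I → Sieve V, (∀ i, T i ∈ J V) → ∃ S ∈ J V,
      ∀ ⦃W : C⦄ (g : W ⟶ V), S g → ∃ (i : I) (Y : C) (p : W ⟶ Y) (q : Y ⟶ V),
        T i q ∧ p ≫ q = g ∧ Stable K t m (n₀ i) (G.obj Y))
    (n : ℕ) (hn : n₁ ≤ n) : IsIso ((HH m).map (a n)) := by
  have htr : ∀ n', n₁ ≤ n' → ∃ τ : (HH m).obj (K n') ⟶ (HH m).obj (K n₁),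
      IsIso τ ∧ (HH m).map (a n') ≫ τ = (HH m).map (a n₁) := by
    intro n' hn'
    induction hn' with
    | refl => exact ⟨𝟙 _, inferInstance, Category.comp_id _⟩
    | step hk ih =>
      obtain ⟨τ, hτ, h⟩ := ih
      haveI := hconst _ hk
      exact ⟨(HH m).map (t _) ≫ τ, inferInstance, by
        rw [← Category.assoc, ← Functor.map_comp, comp_transition hL, h]⟩
  suffices h : IsIso ((HH m).map (a n₁)) by
    obtain ⟨τ, hτ, h'⟩ := htr n hn
    haveI : IsIso ((HH m).map (a n) ≫ τ) := h' ▸ h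
    exact IsIso.of_isIso_comp_right _ τ
  haveI : Mono ((HH m).map (a n₁)) := by
    refine Preadditive.mono_of_cancel_zero _ fun {Z} z hz => hG.gen z fun V φ => ?_
    have hs : (φ ≫ z) ≫ (HH m).map (a n₁) = 0 := by simp [hz]
    obtain ⟨I, n₀, hV'⟩ := hst V
    obtain ⟨T₁, hT₁, hT₁'⟩ := locally_exists_θ hG (φ ≫ z)
    have hT : ∀ i, ∃ T ∈ J V, ∀ ⦃W : C⦄ (g : W ⟶ V), T g → ∃ f : (SF m).obj (G.obj W) ⟶ L,
        θ f = G.map g ≫ φ ≫ z ∧ f ≫ a (max (n₀ i) n₁) = 0 := by
      intro i
      have hsN : (φ ≫ z) ≫ (HH m).map (a (max (n₀ i) n₁)) = 0 := by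
        obtain ⟨τ, hτ, h'⟩ := htr (max (n₀ i) n₁) (le_max_right _ _)
        rw [← cancel_mono τ, Category.assoc, h', hs, zero_comp]
      choose f hf using fun (W : C) (g : W ⟶ V) (hg : T₁ g) => hT₁' g hg
      choose R hR hR' using fun (W : C) (g : W ⟶ V) (hg : T₁ g) =>
        locally_zero_of_θ hG (f W g hg ≫ a (max (n₀ i) n₁)) (by
          rw [θ_comp, hf, Category.assoc, hsN, comp_zero])
      refine ⟨Sieve.bind T₁.arrows fun W g hg => R W g hg, J.bind_covering hT₁ fun W g hg => hR W g hg, ?_⟩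
      rintro W g ⟨W', r, g', hg', hr, rfl⟩
      refine ⟨(SF m).map (G.map r) ≫ f W' g' hg', ?_, ?_⟩
      · rw [θ_pre, hf, Functor.map_comp, Category.assoc]
      · rw [Category.assoc]
        exact hR' W' g' hg' r hr
    choose T hTm hT' using hT
    obtain ⟨S', hS', hS''⟩ := hV' T hTm
    refine hG.sep _ S' hS' fun {W} g hg => ?_
    obtain ⟨i, Y, p, q, hq, rfl, hst'⟩ := hS'' g hg
    obtain ⟨f, hf, hfa⟩ := hT' i q hq
    have : f = 0 := ((hst'.mono (le_max_left _ _)).bijective hL).1 (hfa.trans zero_comp.symm)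
    rw [Functor.map_comp, Category.assoc, ← hf, this, θ, Functor.map_zero, comp_zero, comp_zero]
  haveI : Epi ((HH m).map (a n₁)) := by
    refine Preadditive.epi_of_cancel_zero _ fun {Z} z hz => hG.gen z fun V φ => ?_
    obtain ⟨I, n₀, hV'⟩ := hst V
    choose τ hτ h' using fun i : I => htr (max (n₀ i) n₁) (le_max_right _ _)
    choose T hTm hT using fun i : I => haveI := hτ i; locally_exists_θ hG (φ ≫ inv (τ i))
    obtain ⟨S', hS', hS''⟩ := hV' T hTm
    refine hG.sep _ S' hS' fun {W} g hg => ?_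
    obtain ⟨i, Y, p, q, hq, rfl, hst'⟩ := hS'' g hg
    haveI := hτ i
    obtain ⟨f, hf⟩ := hT i q hq
    obtain ⟨y, hy⟩ := ((hst'.mono (le_max_left _ _)).bijective hL).2 f
    have h1 : G.map q ≫ φ = θ y ≫ (HH m).map (a n₁) := by
      rw [← h' i, ← Category.assoc (θ y), ← θ_comp, show y ≫ a (max (n₀ i) n₁) = f from hy, hf]
      simp
    rw [Functor.map_comp, Category.assoc]
    refine (congrArg (G.map p ≫ ·) ?_).trans comp_zero
    rw [reassoc_of% h1, hz, comp_zero]
  exact isIso_of_mono_of_epi _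

section Trunc

variable {A : Type (u + 1)} [Category.{u} A] [Abelian A] [HasDerivedCategory.{w} A] {C : Type u'}
  [Category.{v'} C] {J : GrothendieckTopology C} {G : C ⥤ A}

/-- An object is the derived limit of its truncations when these are stable near every point. -/
theorem isRlimVia_truncTower_pointwise (hG : LocalGen J G) (E : DerivedCategory A)
    [HasProduct (CohCx.truncTower E)]
    (hst : ∀ (m : ℤ) (V : C), ∃ (I : Type v') (n₀ : I → ℕ), ∀ T : I → Sieve V, (∀ i, T i ∈ J V) → ∃ S ∈ J V,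
      ∀ ⦃W : C⦄ (g : W ⟶ V), S g → ∃ (i : I) (Y : C) (p : W ⟶ Y) (q : Y ⟶ V), T i q ∧ p ≫ q = g ∧
        Stable (CohCx.truncTower E) (CohCx.truncTowerMap E) m (n₀ i) (G.obj Y)) :
    CohCx.IsRlimVia (CohCx.truncTower E) (CohCx.truncTowerMap E) E (CohCx.toTruncTower E) := by
  obtain ⟨L, f, c, hc⟩ := distinguished_cocone_triangle₁
    (Pi.lift fun n => Pi.π (CohCx.truncTower E) n - Pi.π (CohCx.truncTower E) (n + 1) ≫ CohCx.truncTowerMap E n)
  have hf : Pi.lift (fun n => f ≫ Pi.π (CohCx.truncTower E) n) = f := Pi.hom_ext _ _ fun n => by simp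
  have hL : CohCx.IsRlimVia (CohCx.truncTower E) (CohCx.truncTowerMap E) L
      (fun n => f ≫ Pi.π (CohCx.truncTower E) n) := ⟨c, by rw [hf]; exact hc⟩
  obtain ⟨y, hy⟩ := exists_lift hL (CohCx.toTruncTower E) (toTruncTower_comp E)
  have hyi : IsIso y := by
    rw [DerivedCategory.isIso_iff]
    intro m
    haveI := isIso_homology_of_pointwise hL hG m (-m).toNat
      (fun n hn => isIso_homology_truncTowerMap E n m (by omega)) (hst m) (-m).toNat le_rfl
    haveI : IsIso ((DerivedCategory.homologyFunctor A m).map y ≫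
        (DerivedCategory.homologyFunctor A m).map (f ≫ Pi.π (CohCx.truncTower E) (-m).toNat)) := by
      rw [← Functor.map_comp, hy]
      exact isIso_homology_toTruncTower E _ m (by omega)
    exact IsIso.of_isIso_comp_right _
      ((DerivedCategory.homologyFunctor A m).map (f ≫ Pi.π (CohCx.truncTower E) (-m).toNat))
  have hy' : Pi.lift (CohCx.toTruncTower E) = y ≫ f := Pi.hom_ext _ _ fun n => by
    simp [← hy n]
  refine ⟨c ≫ (inv y)⟦(1 : ℤ)⟧', isomorphic_distinguished _ hc _
    (Triangle.isoMk _ _ (asIso y) (Iso.refl _) (Iso.refl _) ?_ ?_ ?_)⟩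
  · simpa using hy'
  · simp
  · simp

end Trunc

end Groth.Agent.SiteRlim
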