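import Groth.Agent.Lib.SiteRlim16.Pointwise
import Groth.Prelude.Def_CohTop
import Groth.Prelude.Def_CohSite
import Groth.Prelude.Def_CohCx

/-! Derived limits of truncations on a topological space. -/

universe u

open CategoryTheory CategoryTheory.Limits TopologicalSpace

set_option autoImplicit false
set_option linter.style.haveILetI false
set_option backward.isDefEq.respectTransparency false
set_option backward.isDefEq.respectTransparency.types false

namespace Groth.Agent.SiteRlim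

/-- On a space, a pointwise bound on the cohomology of the cohomology sheaves suffices. -/
theorem isRlimVia_truncTower_space {X : TopCat.{u}}
    [HasDerivedCategory.{u} (CohTop.Ab X)] (E : DerivedCategory (CohTop.Ab X))
    [HasProduct (CohCx.truncTower E)]
    (h : ∀ (x : X) (m : ℤ), ∃ N : ℕ, ∀ V : Opens X, x ∈ V → ∃ U : Opens X, x ∈ U ∧ U ≤ V ∧
      ∀ (n k : ℕ), N ≤ n → m - 1 ≤ (k : ℤ) - n - 2 → (k : ℤ) - n - 2 ≤ m →
        Subsingleton (CohTop.HU (CohCx.HD E (-(n : ℤ) - 1)) k U)) :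
    CohCx.IsRlimVia (CohCx.truncTower E) (CohCx.truncTowerMap E) E (CohCx.toTruncTower E) := by
  refine isRlimVia_truncTower_pointwise (G := genAb (Opens.grothendieckTopology (X : Type u)))
    (localGen_genAb _) E fun m V => ?_
  choose N hN using fun x => h x m
  refine ⟨{x : X // x ∈ V}, fun x => N x.1, fun T hT => ?_⟩
  have hcov : ∀ x : {x : X // x ∈ V}, ∃ U : Opens X, x.1 ∈ U ∧ (U ≤ V ∧ ∀ hU : U ≤ V, T x (homOfLE hU)) ∧
      ∀ (n k : ℕ), N x.1 ≤ n → m - 1 ≤ (k : ℤ) - n - 2 → (k : ℤ) - n - 2 ≤ m →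
        Subsingleton (CohTop.HU (CohCx.HD E (-(n : ℤ) - 1)) k U) := by
    intro x
    obtain ⟨U', f, hf, hxU'⟩ := hT x x.1 x.2
    obtain ⟨U, hxU, hU, hv⟩ := hN x.1 U' hxU'
    exact ⟨U, hxU, ⟨hU.trans (leOfHom f), fun _ => (T x).downward_closed hf (homOfLE hU)⟩, hv⟩
  choose U hxU hTU hv using hcov
  refine ⟨Sieve.ofArrows U fun x => homOfLE (hTU x).1, fun x hx => ?_, ?_⟩
  · exact ⟨U ⟨x, hx⟩, homOfLE (hTU ⟨x, hx⟩).1,
      Sieve.ofArrows_mk U (fun x => homOfLE (hTU x).1) ⟨x, hx⟩, hxU ⟨x, hx⟩⟩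
  · rintro W g ⟨_, a, b, ⟨x⟩, rfl⟩
    refine ⟨x, U x, a, homOfLE (hTU x).1, (hTU x).2 _, rfl, stable_truncTower.{u, u} E m _ fun n hn k hk hk' => ?_⟩
    exact hv x n k hn hk hk'

end Groth.Agent.SiteRlim
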