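import Groth.Agent.Lib.SiteRlim16.Rlim
import Mathlib.Algebra.Homology.DerivedCategory.Ext.Basic

/-! Vanishing of classes by dévissage, and stability of systems with small cones. -/

set_option autoImplicit false
set_option linter.style.haveILetI false
set_option linter.unusedSectionVars false
set_option backward.isDefEq.respectTransparency false
set_option backward.isDefEq.respectTransparency.types false

universe w w' v u v' u'

open CategoryTheory CategoryTheory.Limits CategoryTheory.Pretriangulated CategoryTheory.Triangulated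
open DerivedCategory.TStructure

namespace Groth.Agent.SiteRlim

variable {A : Type u} [Category.{v} A] [Abelian A] [HasDerivedCategory.{w} A]

local notation "HH" => DerivedCategory.homologyFunctor A
local notation "SF" => DerivedCategory.singleFunctor A

theorem eq_zero_of_bounded {X : A} (j : ℤ) (k : ℕ) : ∀ (P : DerivedCategory A) (a : ℤ),
    P.IsGE a → P.IsLE (a + k) →
    (∀ q, Subsingleton ((SF j).obj X ⟶ (SF q).obj ((HH q).obj P))) →
    ∀ f : (SF j).obj X ⟶ P, f = 0 := by
  have hconc : ∀ (P : DerivedCategory A) (q : ℤ), P.IsGE q → P.IsLE q →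
      Subsingleton ((SF j).obj X ⟶ (SF q).obj ((HH q).obj P)) → ∀ f : (SF j).obj X ⟶ P, f = 0 := by
    intro P q _ _ h f
    obtain ⟨M, ⟨e⟩⟩ := DerivedCategory.exists_iso_singleFunctor_obj_of_isGE_of_isLE P q
    let e' : P ≅ (SF q).obj ((HH q).obj P) := e ≪≫ (SF q).mapIso
      ((DerivedCategory.singleFunctorCompHomologyFunctorIso A q).app M).symm ≪≫
      (SF q).mapIso ((HH q).mapIso e.symm)
    rw [← cancel_mono e'.hom, zero_comp]
    exact h.elim _ _
  induction k with
  | zero =>
    intro P a ha hb h f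
    exact hconc P a ha (by simpa using hb) (h a) f
  | succ k ih =>
    intro P a ha hb h f
    obtain ⟨b, hbdef⟩ : ∃ b : ℤ, a + (k + 1 : ℕ) = b := ⟨_, rfl⟩
    rw [hbdef] at hb
    have hL : DerivedCategory.IsLE ((t.truncLT b).obj P) (a + k) :=
      t.isLE_truncLT_obj P b (a + k) (by lia)
    have hG : DerivedCategory.IsGE ((t.truncLT b).obj P) a :=
      (inferInstance : t.IsGE ((t.truncLT b).obj P) a)
    have hG₃ : DerivedCategory.IsGE ((t.truncGE b).obj P) b :=
      (inferInstance : t.IsGE ((t.truncGE b).obj P) b)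
    have hL₃ : DerivedCategory.IsLE ((t.truncGE b).obj P) b :=
      (inferInstance : t.IsLE ((t.truncGE b).obj P) b)
    have h3 : f ≫ (t.truncGEπ b).app P = 0 := by
      refine hconc ((t.truncGE b).obj P) b hG₃ hL₃ ?_ _
      have := DerTrunc.isIso_homology_truncGEπ P b b le_rfl
      exact ((SF b).mapIso (asIso ((HH b).map ((t.truncGEπ b).app P)))).homToEquiv.subsingleton_congr.1 (h b)
    obtain ⟨f', rfl⟩ := Triangle.coyoneda_exact₂ _ (t.triangleLTGE_distinguished b P) f h3
    have : f' = 0 := ih _ a hG hL (fun q => ?_) f'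
    · rw [this]; exact zero_comp
    · by_cases hq : q < b
      · have := DerTrunc.isIso_homology_truncLTι P b q hq
        exact ((SF q).mapIso (asIso ((HH q).map ((t.truncLTι b).app P)))).homToEquiv.subsingleton_congr.2 (h q)
      · exact ⟨fun x y => ((SF q).map_isZero
          (DerivedCategory.isZero_of_isLE _ (a + k) q (by lia))).eq_of_tgt x y⟩

/-- Classes in a bounded below object vanish when they vanish on every cohomology object. -/
theorem subsingleton_hom_of_homology {X : A} (j : ℤ) (P : DerivedCategory A) (a : ℤ) (hP : P.IsGE a)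
    (h : ∀ q, q ≤ j → Subsingleton ((SF j).obj X ⟶ (SF q).obj ((HH q).obj P))) :
    Subsingleton ((SF j).obj X ⟶ P) := by
  refine subsingleton_of_forall_eq 0 fun f => ?_
  haveI : DerivedCategory.IsLE ((SF j).obj X) j := inferInstance
  obtain ⟨f', rfl⟩ : ∃ f', f' ≫ (t.truncLTι (j + 1)).app P = f :=
    ⟨t.liftTruncLT f j (j + 1) rfl, t.liftTruncLT_ι f j (j + 1) rfl⟩
  suffices f' = 0 by rw [this, zero_comp]
  have hL : DerivedCategory.IsLE ((t.truncLT (j + 1)).obj P) j := t.isLE_truncLT_obj P (j + 1) j (by lia)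
  have hG : DerivedCategory.IsGE ((t.truncLT (j + 1)).obj P) a :=
    (inferInstance : t.IsGE ((t.truncLT (j + 1)).obj P) a)
  refine eq_zero_of_bounded j (j - a).toNat _ a hG (t.isLE_of_le _ j _ (by lia)) (fun q => ?_) f'
  by_cases hq : q ≤ j
  · have := DerTrunc.isIso_homology_truncLTι P (j + 1) q (by lia)
    exact ((SF q).mapIso (asIso ((HH q).map ((t.truncLTι (j + 1)).app P)))).homToEquiv.subsingleton_congr.2 (h q hq)
  · exact ⟨fun x y => ((SF q).map_isZero
      (DerivedCategory.isZero_of_isLE _ j q (by lia))).eq_of_tgt x y⟩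

/-- Classes between shifted objects are `Ext` groups. -/
theorem subsingleton_hom_single [HasExt.{w'} A] {X M : A} (j q : ℤ) (k : ℕ) (hk : q + k = j)
    (h : Subsingleton (Abelian.Ext.{w'} X M k)) : Subsingleton ((SF j).obj X ⟶ (SF q).obj M) := by
  let S := DerivedCategory.singleFunctors A
  let e₁ : ((SF j).obj X)⟦j⟧ ≅ (SF 0).obj X := (S.shiftIso j 0 j (add_zero j)).app X
  let e₂ : ((SF q).obj M)⟦j⟧ ≅ ((SF 0).obj M)⟦(k : ℤ)⟧ :=
    (S.shiftIso j (-(k : ℤ)) q (by lia)).app M ≪≫ ((S.shiftIso (k : ℤ) (-(k : ℤ)) 0 (by lia)).app M).symm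
  refine ⟨fun f g => (shiftFunctor (DerivedCategory A) j).map_injective ?_⟩
  rw [← cancel_mono e₂.hom, ← cancel_epi e₁.inv]
  exact (Abelian.Ext.homEquiv (X := X) (Y := M) (n := k)).symm.injective (h.elim _ _)

variable {C : Type u'} [Category.{v'} C] {G : C ⥤ A}
  {K : ℕ → DerivedCategory A} {t : ∀ n, K (n + 1) ⟶ K n}

/-- Stability from cones without classes. -/
theorem stable_of_cones {m : ℤ} {n₀ : ℕ} {X : A}
    (h : ∀ n, n₀ ≤ n → ∀ (Z : DerivedCategory A) (β : K n ⟶ Z) (γ : Z ⟶ (K (n + 1))⟦(1 : ℤ)⟧),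
      Triangle.mk (t n) β γ ∈ distTriang _ → ∀ j, m - 1 ≤ j → j ≤ m → Subsingleton ((SF j).obj X ⟶ Z)) :
    Stable K t m n₀ X := by
  intro n hn
  obtain ⟨Z, β, γ, hT⟩ := distinguished_cocone_triangle (t n)
  have hsurj : ∀ j, m - 1 ≤ j → j ≤ m → Function.Surjective (fun f : (SF j).obj X ⟶ K (n + 1) => f ≫ t n) :=
    fun j hj hj' f => by
      obtain ⟨g, hg⟩ := Triangle.coyoneda_exact₂ _ hT f ((h n hn Z β γ hT j hj hj').elim _ _)
      exact ⟨g, hg.symm⟩
  refine ⟨⟨(injective_iff_map_eq_zero (AddMonoidHom.mk' (fun f : (SF m).obj X ⟶ K (n + 1) => f ≫ t n)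
    fun _ _ => Preadditive.add_comp _ _ _ _ _ _)).2 fun f hf => ?_, hsurj m (by lia) le_rfl⟩,
    hsurj (m - 1) le_rfl (by lia)⟩
  obtain ⟨z, hz⟩ := Triangle.coyoneda_exact₁ _ hT (f⟦(1 : ℤ)⟧') (by
    change f⟦(1 : ℤ)⟧' ≫ (t n)⟦(1 : ℤ)⟧' = 0
    rw [← Functor.map_comp, show f ≫ t n = 0 from hf, Functor.map_zero])
  let e := ((DerivedCategory.singleFunctors A).shiftIso (1 : ℤ) (m - 1) m (by lia)).app X
  have hz0 : z = 0 := (cancel_epi e.inv).1 ((h n hn Z β γ hT (m - 1) le_rfl (by lia)).elim _ _)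
  apply (shiftFunctor (DerivedCategory A) (1 : ℤ)).map_injective
  rw [hz, hz0, zero_comp, Functor.map_zero]

end Groth.Agent.SiteRlim
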